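import Cfsg.Agent.H655.Rg.KExt3

/-!
# S3691-T5: `kext_even'`, `kext_odd_prime` (helper655)
-/

set_option autoImplicit false

namespace Cfsg.Agent.H655.Rg

open Module Cfsg Cfsg.Geo Cfsg.Agent.LieClassical.OrthCore Cfsg.Agent.LieClassical.OrthTrans
  Cfsg.Agent.H955 Cfsg.Agent.H954.TSing Cfsg.Agent.H884.El Cfsg.Agent.H278.Cov Cfsg.Agent.H449.Reg
open Cfsg.Agent.H951 (fx cm Inv)
open scoped MatrixGroups Matrix

universe u v

variable {F : Type u} [Field F] [Fintype F] {V : Type v} [AddCommGroup V] [Module F V]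
  {Q : QuadraticForm F V} {A : Subgroup (V ≃ₗ[F] V)}

/-- **(T5a)** groups normalising a quadratic field, `m` even, weaker bound -/
theorem kext_even' (hP : H659.CovCore.S5948Stmt.{u}) {m p f r a : ℕ} (hm : Even m) (hm10 : 10 ≤ m)
    (hn : finrank F V = 2 * m) (hQ : Nondeg Q) (hA : A ≤ O Q)
    (hirr : ∀ W : Submodule F V, (∀ a ∈ A, ∀ w ∈ W, a w ∈ W) → W = ⊥ ∨ W = ⊤) (hK : AExt 2 A)
    (hp : p.Prime) (hF : Fintype.card F = p ^ f) (hr : PP p (f * (2 * m - 2)) r)
    {g : V ≃ₗ[F] V} (hg : g ∈ A) (ho : orderOf g = r ^ a) (hbig : 2 * (m - 1) + 1 < r ^ a)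
    (hdvd : r ^ a ∣ (p ^ f) ^ (2 * m - 2) - 1) :
    (∀ t, PP (p ^ f) (2 * m - 4) t → t ∣ Nat.card A) ∨ (∀ t, PP (p ^ f) (2 * m - 6) t → t ∣ Nat.card A) := by
  have _ := hQ
  have _ := hA
  obtain ⟨n, φ₀, K, -, hKf, hle⟩ := hK
  have hn' := finrank_of_equiv φ₀
  have hn2 : n = 2 * m := by omega
  obtain ⟨E, iE, iFE, hE, ⟨φ⟩⟩ := exists_fr hKf hn2 (by norm_num) (by omega)
  have hf : 1 ≤ f := by
    rcases Nat.eq_zero_or_pos f with h | h
    · exfalso
      rw [h, pow_zero] at hF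
      have := Fintype.one_lt_card (α := F)
      omega
    · exact h
  set B := A.map (cj φ₀).toMonoidHom with hB
  have hcard : Nat.card B = Nat.card A := Subgroup.card_map_of_injective (cj φ₀).injective
  have hgB : cj φ₀ g ∈ B := ⟨g, hg, rfl⟩
  have hgo : orderOf (cj φ₀ g) = r ^ a := by rw [MulEquiv.orderOf_eq, ho]
  have hne : Nonempty (Fin n) := ⟨⟨0, by omega⟩⟩
  have hr' : PP p (2 * f * (m - 1)) r := by
    have : 2 * f * (m - 1) = f * (2 * m - 2) := by
      rw [mul_comm 2 f, mul_assoc]; congr 1; omega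
    rw [this]; exact hr
  have hrF : PP (Nat.card F) (2 * m - 2) r := by
    rw [Nat.card_eq_fintype_card, hF]
    exact PP.of_pow hr hf
  have hr2 : r ≠ 2 := by
    have := hrF.lt (by omega)
    omega
  obtain ⟨x, hxB, hxr, hx1, k, hk⟩ := exists_prime_pow hgB hr.prime hgo (by omega)
  have hco : Nat.Coprime (orderOf x) 2 :=
    Nat.Coprime.coprime_dvd_left (orderOf_dvd_of_pow_eq_one hxr) ((Nat.coprime_primes hr.prime Nat.prime_two).2 hr2)
  have hred : ¬ Red (low φ B) := not_red_even φ hKf hle (e := 2 * m - 2) (by omega) ⟨m - 1, by omega⟩ (by omega) hxB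
    (mem_cz hKf hle hxB hco) hxr hx1 hrF (irr_mat φ₀ hirr)
  have hdv : ∀ t, t ∣ Nat.card (low φ B) → t ∣ Nat.card A := fun t ht => hcard ▸ ht.trans (card_low_dvd φ B)
  have hPE : ∀ {t j : ℕ}, PP (p ^ f) (2 * j) t → PP (Nat.card E) j t := fun {t j} ht => by
    rw [Nat.card_eq_fintype_card, hE, hF]
    exact PP.of_pow ht (by norm_num)
  rcases kcore φ hP hKf hn2 hE hle hp hf hF hm10 (k := m - 1) (by omega) (by omega) hr' hgB hgo (by omega)
    (by rw [← pow_mul] at hdvd ⊢; rw [show 2 * f * (m - 1) = f * (2 * m - 2) by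
          rw [mul_comm 2 f, mul_assoc]; congr 1; omega]; exact hdvd) hred with
    h | h | ⟨f', hf', h⟩ | ⟨τ, f', hf', h⟩ | ⟨Q', hQ', h⟩
  · exfalso
    obtain ⟨s, -, hs, hsd, -⟩ := h
    have h1 : Nat.gcd m (m - 1) = 1 := by
      have : Nat.Coprime (m - 1 + 1) (m - 1) := Nat.coprime_self_add_left.2 (Nat.coprime_one_left _)
      rwa [Nat.sub_add_cancel (by omega)] at this
    rw [h1] at hsd
    exact hs.one_lt.ne' (Nat.dvd_one.1 hsd)
  · left
    intro t ht
    rw [show 2 * m - 4 = 2 * (m - 2) by omega] at ht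
    exact hdv t (sl_dvd (hPE ht) (by omega) (by omega) h)
  · left
    intro t ht
    rw [show 2 * m - 4 = 2 * (m - 2) by omega] at ht
    exact hdv t (sp_dvd hf' (hPE ht) (by obtain ⟨i, hi⟩ := hm; exact ⟨i - 1, by omega⟩) (by omega) (by omega) h)
  · right
    intro t ht
    rw [show 2 * m - 6 = 2 * (m - 3) by omega] at ht
    exact hdv t (su_dvd (q := p ^ f) (j := m - 3) (by rw [hE, hF]) hf' ht
      (by obtain ⟨i, hi⟩ := hm; exact ⟨i - 2, by omega⟩) (by omega) (by omega) h)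
  · left
    intro t ht
    rw [show 2 * m - 4 = 2 * (m - 2) by omega] at ht
    exact hdv t (om_dvd hQ' (hPE ht) (by obtain ⟨i, hi⟩ := hm; exact ⟨i - 1, by omega⟩) (by omega) (by omega) (by omega)
      (Or.inl hm) h)

/-- **(T5b)** groups normalising a quadratic field, `m` an odd prime; a number `N` shows `A ≰ ΓL_1(q ^ (2 m))` -/
theorem kext_odd_prime (hP : H659.CovCore.S5948Stmt.{u}) {m p f r a : ℕ} (hm : Odd m) (hm11 : 11 ≤ m)
    (hn : finrank F V = 2 * m) (hQ : Nondeg Q) (hA : A ≤ O Q) (hK : AExt 2 A)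
    (hp : p.Prime) (hF : Fintype.card F = p ^ f) (hr : PP p (f * (2 * m)) r)
    {g : V ≃ₗ[F] V} (hg : g ∈ A) (ho : orderOf g = r ^ a) (hbig : 2 * (2 * m) + 1 < r ^ a)
    (hdvd : r ^ a ∣ (p ^ f) ^ (2 * m) - 1)
    (hmp : m.Prime) (hN : ∃ N, N ∣ Nat.card A ∧ N.Coprime ((p ^ f) ^ (2 * m) - 1) ∧ ¬ N ∣ 2 * m) :
    (∀ t, PP (p ^ f) (2 * m - 4) t → t ∣ Nat.card A) ∨ (∀ t, PP (p ^ f) (2 * m - 2) t → t ∣ Nat.card A) := by
  have _ := hQ
  have _ := hA
  obtain ⟨n, φ₀, K, -, hKf, hle⟩ := hK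
  have hn' := finrank_of_equiv φ₀
  have hn2 : n = 2 * m := by omega
  obtain ⟨E, iE, iFE, hE, ⟨φ⟩⟩ := exists_fr hKf hn2 (by norm_num) (by omega)
  have hf : 1 ≤ f := by
    rcases Nat.eq_zero_or_pos f with h | h
    · exfalso
      rw [h, pow_zero] at hF
      have := Fintype.one_lt_card (α := F)
      omega
    · exact h
  set B := A.map (cj φ₀).toMonoidHom with hB
  have hcard : Nat.card B = Nat.card A := Subgroup.card_map_of_injective (cj φ₀).injective
  have hgB : cj φ₀ g ∈ B := ⟨g, hg, rfl⟩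
  have hgo : orderOf (cj φ₀ g) = r ^ a := by rw [MulEquiv.orderOf_eq, ho]
  have hne : Nonempty (Fin n) := ⟨⟨0, by omega⟩⟩
  have hr' : PP p (2 * f * m) r := by
    have : 2 * f * m = f * (2 * m) := by ring
    rw [this]; exact hr
  have hrF : PP (Nat.card F) n r := by
    rw [Nat.card_eq_fintype_card, hF, hn2]
    exact PP.of_pow hr hf
  have hr2 : r ≠ 2 := by
    have := hrF.lt (by omega)
    omega
  obtain ⟨x, hxB, hxr, hx1, k, hk⟩ := exists_prime_pow hgB hr.prime hgo (by omega)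
  have hco : Nat.Coprime (orderOf x) 2 :=
    Nat.Coprime.coprime_dvd_left (orderOf_dvd_of_pow_eq_one hxr) ((Nat.coprime_primes hr.prime Nat.prime_two).2 hr2)
  have hred : ¬ Red (low φ B) := not_red_odd φ (by omega) hxB (mem_cz hKf hle hxB hco) hxr hx1 hrF
  have hdv : ∀ t, t ∣ Nat.card (low φ B) → t ∣ Nat.card A := fun t ht => hcard ▸ ht.trans (card_low_dvd φ B)
  have hPE : ∀ {t j : ℕ}, PP (p ^ f) (2 * j) t → PP (Nat.card E) j t := fun {t j} ht => by
    rw [Nat.card_eq_fintype_card, hE, hF]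
    exact PP.of_pow ht (by norm_num)
  rcases kcore φ hP hKf hn2 hE hle hp hf hF (by omega) (k := m) le_rfl (by omega) hr' hgB hgo (by omega)
    (by rw [← pow_mul] at hdvd ⊢; rw [show 2 * f * m = f * (2 * m) by ring]; exact hdvd) hred with
    h | h | ⟨f', hf', h⟩ | ⟨τ, f', hf', h⟩ | ⟨Q', hQ', h⟩
  · exfalso
    rw [Nat.gcd_self] at h
    obtain ⟨N, hNA, hNc, hN2⟩ := hN
    apply hN2
    have h1 := card_gammaL hmp h
    rw [show Nat.card E ^ m = (p ^ f) ^ (2 * m) by rw [Nat.card_eq_fintype_card, hE, hF, ← pow_mul]] at h1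
    have h2 : Nat.card B ∣ Nat.card (low φ B) * 2 := by rw [card_low]; exact card_dvd_mul hKf hle
    have h3 : N ∣ Nat.card B := by rw [hcard]; exact hNA
    have h4 := (h3.trans h2).trans (Nat.mul_dvd_mul_right h1 2)
    rw [mul_assoc, mul_comm m 2] at h4
    exact hNc.dvd_of_dvd_mul_left h4
  · left
    intro t ht
    rw [show 2 * m - 4 = 2 * (m - 2) by omega] at ht
    exact hdv t (sl_dvd (hPE ht) (by omega) (by omega) h)
  · exfalso
    have h5 := H914.even_card_of_symplectic hf'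
    rw [Fintype.card_fin] at h5
    exact (Nat.not_even_iff_odd.2 hm) h5
  · left
    intro t ht
    rw [show 2 * m - 4 = 2 * (m - 2) by omega] at ht
    exact hdv t (su_dvd (q := p ^ f) (j := m - 2) (by rw [hE, hF]) hf' ht
      (by obtain ⟨i, hi⟩ := hm; exact ⟨i - 1, by omega⟩) (by omega) (by omega) h)
  · right
    intro t ht
    rw [show 2 * m - 2 = 2 * (m - 1) by omega] at ht
    exact hdv t (om_dvd hQ' (hPE ht) (by obtain ⟨i, hi⟩ := hm; exact ⟨i, by omega⟩) (by omega) (by omega) (by omega)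
      (Or.inr (two_ne_zero_of_odd hm hQ')) h)

end Cfsg.Agent.H655.Rg
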