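import Cfsg.Agent.H655.Rg.KExt2
import Mathlib.LinearAlgebra.Matrix.GeneralLinearGroup.Card

/-!
# S3691-T5: `kext_odd'` (helper655)
-/

set_option autoImplicit false

namespace Cfsg.Agent.H655.Rg

open Module Cfsg Cfsg.Geo Cfsg.Agent.LieClassical.OrthCore Cfsg.Agent.LieClassical.OrthTrans
  Cfsg.Agent.H955 Cfsg.Agent.H954.TSing Cfsg.Agent.H884.El Cfsg.Agent.H278.Cov Cfsg.Agent.H449.Reg
open Cfsg.Agent.H951 (fx cm Inv)
open scoped MatrixGroups Matrix

universe u v

/-- the centraliser of a field of degree `m` in `GL_m` -/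
theorem card_cz {E : Type u} [Field E] [Fintype E] {m : ℕ} (hm : 0 < m) {M : Subalgebra E (Matrix (Fin m) (Fin m) E)}
    (hM : IsFieldSubalgebra m M) : Nat.card (cz M) ∣ Nat.card E ^ m - 1 := by
  obtain ⟨E', iE', iFE', hE', ⟨φ⟩⟩ := exists_fr hM (m := 1) (by omega) hm one_pos
  have h1 := Subgroup.card_dvd_of_injective (liftHom φ) (lift_injective φ)
  have h2 : Nat.card (GL (Fin 1) E') = Fintype.card E' - 1 := by
    rw [Matrix.card_GL_field]
    simp
  rwa [h2, hE', ← Nat.card_eq_fintype_card] at h1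

theorem card_gammaL {E : Type u} [Field E] [Fintype E] {m : ℕ} (hm : m.Prime) {H : Subgroup (GL (Fin m) E)}
    (hExt : Ext m H) : Nat.card H ∣ (Nat.card E ^ m - 1) * m := by
  obtain ⟨s, M, hs, hsm, hM, hle⟩ := hExt
  have hne : Nonempty (Fin m) := ⟨⟨0, hm.pos⟩⟩
  obtain rfl : s = m := (Nat.prime_dvd_prime_iff_eq hs hm).1 hsm
  exact (card_dvd_mul hM hle).trans (Nat.mul_dvd_mul_right
    ((Subgroup.card_dvd_of_le inf_le_right).trans (card_cz hm.pos hM)) _)

variable {F : Type u} [Field F] [Fintype F] {V : Type v} [AddCommGroup V] [Module F V]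
  {Q : QuadraticForm F V} {A : Subgroup (V ≃ₗ[F] V)}

/-- **(T5b)** groups normalising a quadratic field, `m` odd; for `m` prime a number `N` shows `A ≰ ΓL_1(q ^ (2 m))` -/
theorem kext_odd' (hP : H659.CovCore.S5948Stmt.{u}) {m p f r a : ℕ} (hm : Odd m) (hm11 : 11 ≤ m)
    (hn : finrank F V = 2 * m) (hQ : Nondeg Q) (hA : A ≤ O Q) (hK : AExt 2 A)
    (hp : p.Prime) (hF : Fintype.card F = p ^ f) (hr : PP p (f * (2 * m)) r)
    {g : V ≃ₗ[F] V} (hg : g ∈ A) (ho : orderOf g = r ^ a) (hbig : 2 * (2 * m) + 1 < r ^ a)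
    (hdvd : r ^ a ∣ (p ^ f) ^ (2 * m) - 1)
    {t : ℕ} (ht : PP (p ^ f) (m - 1) t) (htA : t ∣ Nat.card A)
    (hN : m.Prime → ∃ N, N ∣ Nat.card A ∧ N.Coprime ((p ^ f) ^ (2 * m) - 1) ∧ ¬ N ∣ 2 * m) :
    (∀ t, PP (p ^ f) (2 * m - 4) t → t ∣ Nat.card A) ∨ (∀ t, PP (p ^ f) (2 * m - 2) t → t ∣ Nat.card A) := by
  have _ := hQ
  have _ := hA
  obtain ⟨n, φ₀, K, -, hKf, hle⟩ := hK
  have hn' := finrank_of_equiv φ₀
  have hn2 : n = 2 * m := by omega
  obtain ⟨E, iE, iFE, hE, ⟨φ⟩⟩ := exists_fr hKf hn2 (by norm_num) (by omega)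
  have hf : 1 ≤ f := by
    rcases Nat.eq_zero_or_pos f with h | h
    · exfalso
      rw [h, pow_zero] at hF
      have := Fintype.one_lt_card (α := F)
      omega
    · exact h
  set B := A.map (cj φ₀).toMonoidHom with hB
  have hcard : Nat.card B = Nat.card A := Subgroup.card_map_of_injective (cj φ₀).injective
  have hgB : cj φ₀ g ∈ B := ⟨g, hg, rfl⟩
  have hgo : orderOf (cj φ₀ g) = r ^ a := by rw [MulEquiv.orderOf_eq, ho]
  have hne : Nonempty (Fin n) := ⟨⟨0, by omega⟩⟩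
  have hr' : PP p (2 * f * m) r := by
    have : 2 * f * m = f * (2 * m) := by ring
    rw [this]; exact hr
  have hrF : PP (Nat.card F) n r := by
    rw [Nat.card_eq_fintype_card, hF, hn2]
    exact PP.of_pow hr hf
  have hr2 : r ≠ 2 := by
    have := hrF.lt (by omega)
    omega
  obtain ⟨x, hxB, hxr, hx1, k, hk⟩ := exists_prime_pow hgB hr.prime hgo (by omega)
  have hco : Nat.Coprime (orderOf x) 2 :=
    Nat.Coprime.coprime_dvd_left (orderOf_dvd_of_pow_eq_one hxr) ((Nat.coprime_primes hr.prime Nat.prime_two).2 hr2)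
  have hred : ¬ Red (low φ B) := not_red_odd φ (by omega) hxB (mem_cz hKf hle hxB hco) hxr hx1 hrF
  have hdv : ∀ t, t ∣ Nat.card (low φ B) → t ∣ Nat.card A := fun t ht => hcard ▸ ht.trans (card_low_dvd φ B)
  have hPE : ∀ {t j : ℕ}, PP (p ^ f) (2 * j) t → PP (Nat.card E) j t := fun {t j} ht => by
    rw [Nat.card_eq_fintype_card, hE, hF]
    exact PP.of_pow ht (by norm_num)
  rcases kcore φ hP hKf hn2 hE hle hp hf hF (by omega) (k := m) le_rfl (by omega) hr' hgB hgo (by omega)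
    (by rw [← pow_mul] at hdvd ⊢; rw [show 2 * f * m = f * (2 * m) by ring]; exact hdvd) hred with
    h | h | ⟨f', hf', h⟩ | ⟨τ, f', hf', h⟩ | ⟨Q', hQ', h⟩
  · exfalso
    rw [Nat.gcd_self] at h
    obtain ⟨j, hj⟩ := hm
    have htE : PP (Nat.card E) j t := hPE (by rw [show 2 * j = m - 1 by omega]; exact ht)
    have htl := ht.lt (by omega)
    have := Fact.mk ht.prime
    rcases eq_or_ne t m with htm | htm
    · have hmp : m.Prime := htm ▸ ht.prime
      obtain ⟨N, hNA, hNc, hN2⟩ := hN hmp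
      apply hN2
      have h1 := card_gammaL hmp h
      rw [show Nat.card E ^ m = (p ^ f) ^ (2 * m) by rw [Nat.card_eq_fintype_card, hE, hF, ← pow_mul]] at h1
      have h2 : Nat.card B ∣ Nat.card (low φ B) * 2 := by rw [card_low]; exact card_dvd_mul hKf hle
      have h3 : N ∣ Nat.card B := by rw [hcard]; exact hNA
      have h4 := (h3.trans h2).trans (Nat.mul_dvd_mul_right h1 2)
      rw [mul_assoc, mul_comm m 2] at h4
      exact hNc.dvd_of_dvd_mul_left h4
    · obtain ⟨⟨z, hz⟩, hzo⟩ := exists_prime_orderOf_dvd_card' (G := B) t (by rw [hcard]; exact htA)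
      rw [Subgroup.orderOf_mk] at hzo
      have hzc : z ∈ cz K := mem_cz hKf hle hz (by
        rw [hzo]
        exact (Nat.coprime_primes ht.prime Nat.prime_two).2 (by omega))
      exact not_ext_odd (by omega) hj htE htl htm (mem_low φ hzc hz) (by rw [order_lift, hzo]) h
  · left
    intro t ht
    rw [show 2 * m - 4 = 2 * (m - 2) by omega] at ht
    exact hdv t (sl_dvd (hPE ht) (by omega) (by omega) h)
  · exfalso
    have h5 := H914.even_card_of_symplectic hf'
    rw [Fintype.card_fin] at h5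
    exact (Nat.not_even_iff_odd.2 hm) h5
  · left
    intro t ht
    rw [show 2 * m - 4 = 2 * (m - 2) by omega] at ht
    exact hdv t (su_dvd (q := p ^ f) (j := m - 2) (by rw [hE, hF]) hf' ht
      (by obtain ⟨i, hi⟩ := hm; exact ⟨i - 1, by omega⟩) (by omega) (by omega) h)
  · right
    intro t ht
    rw [show 2 * m - 2 = 2 * (m - 1) by omega] at ht
    exact hdv t (om_dvd hQ' (hPE ht) (by obtain ⟨i, hi⟩ := hm; exact ⟨i, by omega⟩) (by omega) (by omega) (by omega)
      (Or.inr (two_ne_zero_of_odd hm hQ')) h)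

end Cfsg.Agent.H655.Rg
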