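import Cfsg.Agent.H906.Cov.EKill
import Cfsg.Agent.LieClassical.OrthFinite
import Cfsg.Agent.H951.Lin
import Cfsg.Agent.H884.ElNum

/-!
# S3691: coordinates over a field of matrices (helper655)

* `Fr K E m`, `exists_fr` : coordinates over the field `K` of matrices; `liftHom` : the centraliser of `K` as matrices over `E`
* `inv_all`, `inv_cases` : invariant subspaces of an element of primitive prime order
-/

set_option autoImplicit false

namespace Cfsg.Agent.H655.Rg

open Module Cfsg Cfsg.Geo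
open Cfsg.Agent.LieClassical.OrthFinite (glEquiv glEquiv_apply)
open Cfsg.Agent.H951 (fx cm Inv inv_fx inv_cm)
open Cfsg.Agent.H884.El (PP)
open scoped MatrixGroups Matrix

universe u v

section Frame

variable {F : Type u} [Field F] {n : ℕ}

/-- coordinates over a field of matrices -/
structure Fr (K : Subalgebra F (Matrix (Fin n) (Fin n) F)) (E : Type u) [Field E] (m : ℕ) where
  /-- the coordinates -/
  ψ : (Fin n → F) ≃+ (Fin m → E)
  /-- the scalars -/
  toE : Matrix (Fin n) (Fin n) F → E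
  act : ∀ k ∈ K, ∀ v, ψ (k *ᵥ v) = toE k • ψ v
  surj : ∀ e : E, ∃ k ∈ K, toE k = e

theorem exists_fr [Fintype F] {s : ℕ} {K : Subalgebra F (Matrix (Fin n) (Fin n) F)} (hK : IsFieldSubalgebra s K) {m : ℕ}
    (hn : n = s * m) (hs : 0 < s) (hm : 0 < m) :
    ∃ (E : Type u) (_ : Field E) (_ : Fintype E), Fintype.card E = Fintype.card F ^ s ∧ Nonempty (Fr K E m) := by
  classical
  have h0 : 0 < n := by rw [hn]; exact Nat.mul_pos hs hm
  have hne : Nonempty (Fin n) := ⟨⟨0, h0⟩⟩
  let _ : Field K := (H906.Cov.isField_of hK).toField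
  have hfin : Finite K := Module.finite_of_finite F
  let _ : Fintype K := Fintype.ofFinite K
  have h1 := Module.finrank_mul_finrank F K (Fin n → F)
  rw [hK.finrank_eq, Module.finrank_fintype_fun_eq_card, Fintype.card_fin] at h1
  have h2 : Module.finrank K (Fin n → F) = m := Nat.eq_of_mul_eq_mul_left hs (h1.trans hn)
  have hff : Module.Finite K (Fin n → F) := Module.Finite.of_restrictScalars_finite F K (Fin n → F)
  let ψ : (Fin n → F) ≃ₗ[K] (Fin m → K) := LinearEquiv.ofFinrankEq _ _ (by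
    rw [h2, Module.finrank_fintype_fun_eq_card, Fintype.card_fin])
  refine ⟨K, inferInstance, inferInstance, ?_, ⟨⟨ψ.toAddEquiv, fun k => if h : k ∈ K then ⟨k, h⟩ else 0, ?_, ?_⟩⟩⟩
  · rw [Module.card_eq_pow_finrank (K := F), hK.finrank_eq]
  · intro k hk v
    rw [dif_pos hk]
    exact ψ.map_smul (⟨k, hk⟩ : K) v
  · rintro ⟨k, hk⟩
    exact ⟨k, hk, dif_pos hk⟩

/-- the centraliser of `K` -/
def cz (K : Subalgebra F (Matrix (Fin n) (Fin n) F)) : Subgroup (GL (Fin n) F) where
  carrier := {x | ∀ k ∈ K, (x : Matrix (Fin n) (Fin n) F) * k = k * x}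
  mul_mem' {a b} ha hb := by
    intro k hk
    rw [Units.val_mul, mul_assoc, hb k hk, ← mul_assoc, ha k hk, mul_assoc]
  one_mem' := by intro k _; simp
  inv_mem' {a} ha := by
    intro k hk
    have h1 := ha k hk
    calc ((a⁻¹ : GL (Fin n) F) : Matrix (Fin n) (Fin n) F) * k =
        ((a⁻¹ : GL (Fin n) F) : Matrix (Fin n) (Fin n) F) * (k * a) * ((a⁻¹ : GL (Fin n) F) : Matrix (Fin n) (Fin n) F) := by
          rw [mul_assoc, mul_assoc, ← Units.val_mul, mul_inv_cancel, Units.val_one, mul_one]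
      _ = k * ((a⁻¹ : GL (Fin n) F) : Matrix (Fin n) (Fin n) F) := by
          rw [← h1, ← mul_assoc, ← Units.val_mul, inv_mul_cancel, Units.val_one, one_mul]

variable {K : Subalgebra F (Matrix (Fin n) (Fin n) F)} {E : Type u} [Field E] {m : ℕ} (φ : Fr K E m)

theorem Fr.symm_smul (e : E) {k : Matrix (Fin n) (Fin n) F} (hk : k ∈ K) (he : φ.toE k = e) (w : Fin m → E) :
    φ.ψ.symm (e • w) = k *ᵥ φ.ψ.symm w := by
  apply φ.ψ.injective
  rw [φ.act k hk, φ.ψ.apply_symm_apply, φ.ψ.apply_symm_apply, he]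

/-- elements of the centraliser over `E` -/
def up (x : cz K) : (Fin m → E) ≃ₗ[E] (Fin m → E) where
  toFun w := φ.ψ (((x : GL (Fin n) F) : Matrix (Fin n) (Fin n) F) *ᵥ φ.ψ.symm w)
  map_add' a b := by rw [map_add, Matrix.mulVec_add, map_add]
  map_smul' e w := by
    obtain ⟨k, hk, he⟩ := φ.surj e
    rw [φ.symm_smul e hk he, Matrix.mulVec_mulVec, x.2 k hk, ← Matrix.mulVec_mulVec, φ.act k hk, he, RingHom.id_apply]
  invFun w := φ.ψ ((((x : GL (Fin n) F)⁻¹ : GL (Fin n) F) : Matrix (Fin n) (Fin n) F) *ᵥ φ.ψ.symm w)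
  left_inv w := by
    change φ.ψ ((((x : GL (Fin n) F)⁻¹ : GL (Fin n) F) : Matrix (Fin n) (Fin n) F) *ᵥ
      φ.ψ.symm (φ.ψ (((x : GL (Fin n) F) : Matrix (Fin n) (Fin n) F) *ᵥ φ.ψ.symm w))) = w
    rw [φ.ψ.symm_apply_apply, Matrix.mulVec_mulVec, ← Units.val_mul, inv_mul_cancel, Units.val_one, Matrix.one_mulVec,
      φ.ψ.apply_symm_apply]
  right_inv w := by
    change φ.ψ (((x : GL (Fin n) F) : Matrix (Fin n) (Fin n) F) *ᵥ
      φ.ψ.symm (φ.ψ ((((x : GL (Fin n) F)⁻¹ : GL (Fin n) F) : Matrix (Fin n) (Fin n) F) *ᵥ φ.ψ.symm w))) = w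
    rw [φ.ψ.symm_apply_apply, Matrix.mulVec_mulVec, ← Units.val_mul, mul_inv_cancel, Units.val_one, Matrix.one_mulVec,
      φ.ψ.apply_symm_apply]

theorem up_apply (x : cz K) (w : Fin m → E) :
    up φ x w = φ.ψ (((x : GL (Fin n) F) : Matrix (Fin n) (Fin n) F) *ᵥ φ.ψ.symm w) := rfl

/-- the centraliser of `K` as matrices over `E` -/
noncomputable def liftHom : cz K →* GL (Fin m) E :=
  (glEquiv (Fin m) E).symm.toMonoidHom.comp
    { toFun := up φ
      map_one' := by
        apply LinearEquiv.ext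
        intro w
        rw [up_apply, OneMemClass.coe_one, Units.val_one, Matrix.one_mulVec, φ.ψ.apply_symm_apply]
        rfl
      map_mul' := fun a b => by
        apply LinearEquiv.ext
        intro w
        rw [LinearEquiv.mul_apply, up_apply, up_apply, up_apply, φ.ψ.symm_apply_apply, Matrix.mulVec_mulVec, ← Units.val_mul,
          ← Subgroup.coe_mul] }

theorem lift_apply (x : cz K) (w : Fin m → E) : (liftHom φ x : Matrix (Fin m) (Fin m) E) *ᵥ w =
    φ.ψ (((x : GL (Fin n) F) : Matrix (Fin n) (Fin n) F) *ᵥ φ.ψ.symm w) := by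
  rw [← glEquiv_apply]
  change glEquiv (Fin m) E ((glEquiv (Fin m) E).symm (up φ x)) w = _
  rw [MulEquiv.apply_symm_apply]
  rfl

theorem lift_injective : Function.Injective (liftHom φ) := by
  intro x y hxy
  apply Subtype.ext
  apply (glEquiv (Fin n) F).injective
  apply LinearEquiv.ext
  intro v
  rw [glEquiv_apply, glEquiv_apply]
  have h1 := lift_apply φ x (φ.ψ v)
  rw [hxy, lift_apply, φ.ψ.symm_apply_apply] at h1
  exact (φ.ψ.injective h1).symm

/-- the part of `B` centralising `K`, over `E` -/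
noncomputable def low (B : Subgroup (GL (Fin n) F)) : Subgroup (GL (Fin m) E) := (B.subgroupOf (cz K)).map (liftHom φ)

theorem mem_low {B : Subgroup (GL (Fin n) F)} {x : GL (Fin n) F} (hx : x ∈ cz K) (hxB : x ∈ B) :
    liftHom φ ⟨x, hx⟩ ∈ low φ B := ⟨⟨x, hx⟩, hxB, rfl⟩

theorem card_low_dvd (B : Subgroup (GL (Fin n) F)) : Nat.card (low φ B) ∣ Nat.card B := by
  rw [low, Subgroup.card_map_of_injective (lift_injective φ), ← Subgroup.card_map_of_injective (Subgroup.subtype_injective _),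
    Subgroup.subgroupOf_map_subtype]
  exact Subgroup.card_dvd_of_le inf_le_left

/-- the pullback of a subspace -/
def pull (U : Submodule E (Fin m → E)) : Submodule F (Fin n → F) where
  carrier := {v | φ.ψ v ∈ U}
  add_mem' {a b} ha hb := by
    change φ.ψ (a + b) ∈ U
    rw [map_add]
    exact U.add_mem ha hb
  zero_mem' := by
    change φ.ψ 0 ∈ U
    rw [map_zero]
    exact U.zero_mem
  smul_mem' c v hv := by
    change φ.ψ (c • v) ∈ U
    have h1 : c • v = (algebraMap F (Matrix (Fin n) (Fin n) F) c) *ᵥ v := by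
      rw [Algebra.algebraMap_eq_smul_one, Matrix.smul_mulVec, Matrix.one_mulVec]
    rw [h1, φ.act _ (K.algebraMap_mem c)]
    exact U.smul_mem _ hv

theorem mem_pull {U : Submodule E (Fin m → E)} {v : Fin n → F} : v ∈ pull φ U ↔ φ.ψ v ∈ U := Iff.rfl

theorem pull_stable {U : Submodule E (Fin m → E)} {k : Matrix (Fin n) (Fin n) F} (hk : k ∈ K) {v : Fin n → F}
    (hv : v ∈ pull φ U) : k *ᵥ v ∈ pull φ U := by
  rw [mem_pull, φ.act k hk]
  exact U.smul_mem _ hv

theorem pull_ne_bot {U : Submodule E (Fin m → E)} (hU : U ≠ ⊥) : pull φ U ≠ ⊥ := by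
  intro h
  apply hU
  rw [Submodule.eq_bot_iff]
  intro w hw
  have h1 : φ.ψ.symm w ∈ pull φ U := by rw [mem_pull, φ.ψ.apply_symm_apply]; exact hw
  rw [h, Submodule.mem_bot] at h1
  rw [← φ.ψ.apply_symm_apply w, h1, map_zero]

theorem pull_ne_top {U : Submodule E (Fin m → E)} (hU : U ≠ ⊤) : pull φ U ≠ ⊤ := by
  intro h
  apply hU
  rw [eq_top_iff]
  intro w _
  have h1 : φ.ψ.symm w ∈ pull φ U := by rw [h]; trivial
  rwa [mem_pull, φ.ψ.apply_symm_apply] at h1

theorem pull_inv {B : Subgroup (GL (Fin n) F)} {U : Submodule E (Fin m → E)} (hU : low φ B ≤ subspaceStabilizer U)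
    {x : GL (Fin n) F} (hx : x ∈ cz K) (hxB : x ∈ B) {v : Fin n → F} (hv : v ∈ pull φ U) :
    (x : Matrix (Fin n) (Fin n) F) *ᵥ v ∈ pull φ U := by
  have h1 := (hU (mem_low φ hx hxB) (φ.ψ v)).1 hv
  change (liftHom φ ⟨x, hx⟩ : Matrix (Fin m) (Fin m) E) *ᵥ φ.ψ v ∈ U at h1
  rw [lift_apply, φ.ψ.symm_apply_apply] at h1
  exact h1

end Frame

section Inv

variable {F : Type u} [Field F] [Fintype F] {W : Type v} [AddCommGroup W] [Module F W] [FiniteDimensional F W]
  {x : Module.End F W} {r e : ℕ}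

theorem ne0 (h : PP (Nat.card F) e r) (he : 1 ≤ e) : (r : F) ≠ 0 := by
  intro h0
  obtain ⟨p, hp⟩ := CharP.exists F
  obtain ⟨n, hpp, hn⟩ := FiniteField.card F p
  have h1 : p ∣ r := (CharP.cast_eq_zero_iff F p r).1 h0
  have h2 : p = r := (Nat.prime_dvd_prime_iff_eq hpp h.prime).1 h1
  apply h.not_dvd he
  rw [Nat.card_eq_fintype_card, hn, h2]
  exact dvd_pow_self _ n.ne_zero

theorem dvd_inf (hr : PP (Nat.card F) e r) (he : 1 ≤ e) (hx : x ^ r = 1) {U : Submodule F W} (hU : Inv x U) :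
    e ∣ finrank F ↥(U ⊓ cm x) := by
  have := Fact.mk hr.prime
  have h1 := H951.ord_dvd_finrank hx (hU.inf inv_cm) (H951.inf_fx_of_le_cm (ne0 hr he) hx inf_le_right)
  rwa [← Nat.card_eq_fintype_card, hr.ord] at h1

theorem dvd_cm (hr : PP (Nat.card F) e r) (he : 1 ≤ e) (hx : x ^ r = 1) : e ∣ finrank F (cm x) := by
  have := dvd_inf hr he hx (U := ⊤) H951.inv_top
  rwa [top_inf_eq] at this

omit [Fintype F] in
theorem cm_pos (hx1 : x ≠ 1) : 0 < finrank F (cm x) := by
  rw [Nat.pos_iff_ne_zero]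
  intro h0
  apply hx1
  have h1 : x - 1 = 0 := LinearMap.range_eq_bot.1 (Submodule.finrank_eq_zero.1 h0)
  exact sub_eq_zero.1 h1

/-- primitive primes of the full dimension -/
theorem inv_all (hr : PP (Nat.card F) e r) (he : 1 ≤ e) (hx : x ^ r = 1) (hx1 : x ≠ 1) (hW : finrank F W = e)
    {U : Submodule F W} (hU : Inv x U) : U = ⊥ ∨ U = ⊤ := by
  have h1 := dvd_cm hr he hx
  have h2 := cm_pos hx1
  have h3 : finrank F (cm x) ≤ finrank F W := Submodule.finrank_le _
  have h4 := Nat.le_of_dvd h2 h1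
  have h5 : cm x = ⊤ := Submodule.eq_top_of_finrank_eq (by omega)
  have h6 := dvd_inf hr he hx hU
  rw [h5, inf_top_eq] at h6
  have h7 : finrank F U ≤ finrank F W := Submodule.finrank_le _
  rcases Nat.eq_zero_or_pos (finrank F U) with h8 | h8
  · exact Or.inl (Submodule.finrank_eq_zero.1 h8)
  · have := Nat.le_of_dvd h8 h6
    exact Or.inr (Submodule.eq_top_of_finrank_eq (by omega))

/-- primitive primes of codimension two -/
theorem inv_cases (hr : PP (Nat.card F) e r) (he : Even e) (he2 : 2 < e) (hx : x ^ r = 1) (hx1 : x ≠ 1)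
    (hW : finrank F W = e + 2) : finrank F (fx x) = 2 ∧ finrank F (cm x) = e ∧
    ∀ U : Submodule F W, Inv x U → 2 ∣ finrank F U → U ≠ ⊥ → U ≠ ⊤ → U = fx x ∨ U = cm x := by
  have hr0 := ne0 hr (by omega)
  have h1 := dvd_cm hr (by omega) hx
  have h2 := cm_pos hx1
  have h3 : finrank F (cm x) ≤ finrank F W := Submodule.finrank_le _
  have h4 : finrank F (cm x) = e := by
    obtain ⟨A, hA⟩ := h1
    have hA1 : A = 1 := by
      have h4 : A < 2 := by
        by_contra hcon
        push Not at hcon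
        have := Nat.mul_le_mul_left e hcon
        omega
      have h5 : A ≠ 0 := by rintro rfl; omega
      omega
    rw [hA, hA1, mul_one]
  have h5 := H951.finrank_fx_add_cm hr0 hx
  have h6 : finrank F (fx x) = 2 := by omega
  refine ⟨h6, h4, fun U hU hd h0 ht => ?_⟩
  have h7 := H951.finrank_inf_add hr0 hx hU
  have h8 := dvd_inf hr (by omega) hx hU
  have h9 : finrank F ↥(U ⊓ cm x) ≤ finrank F (cm x) := Submodule.finrank_mono inf_le_right
  have h10 : finrank F ↥(U ⊓ fx x) ≤ finrank F (fx x) := Submodule.finrank_mono inf_le_right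
  have h11 : finrank F U ≠ 0 := fun h => h0 (Submodule.finrank_eq_zero.1 h)
  obtain ⟨i, hi⟩ := he
  obtain ⟨j, hj⟩ := hd
  rcases Nat.eq_zero_or_pos (finrank F ↥(U ⊓ cm x)) with h12 | h12
  · left
    have h13 : finrank F ↥(U ⊓ fx x) = finrank F U := by omega
    have h14 : finrank F ↥(U ⊓ fx x) = finrank F (fx x) := by omega
    exact (Submodule.eq_of_le_of_finrank_eq inf_le_left h13).symm.trans (Submodule.eq_of_le_of_finrank_eq inf_le_right h14)
  · right
    have h13 := Nat.le_of_dvd h12 h8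
    have h14 : finrank F ↥(U ⊓ cm x) = finrank F (cm x) := by omega
    have h15 : cm x ≤ U := by
      rw [← Submodule.eq_of_le_of_finrank_eq inf_le_right h14]
      exact inf_le_left
    have h16 : finrank F U ≠ finrank F W := fun h => ht (Submodule.eq_top_of_finrank_eq h)
    have h17 : finrank F U ≤ finrank F W := Submodule.finrank_le _
    exact (Submodule.eq_of_le_of_finrank_eq h15 (by omega)).symm

end Inv

end Cfsg.Agent.H655.Rg
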