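import Cfsg.Agent.H884.ElT
import Cfsg.Agent.H884.OmegaGL
import Cfsg.Agent.H587.KB8.Geo
import Cfsg.Agent.H16.PSp4.Bridge
import Cfsg.Agent.H948.UProd
import Cfsg.Agent.H956.UnitSim
import Cfsg.Agent.H895.SLT.Sigma
import Cfsg.Agent.H953.Sympl
import Cfsg.Agent.H914.Uni
import Cfsg.Agent.H905.SLBasic
import Cfsg.Agent.S0242
import Cfsg.Agent.LieClassical.SympCount

/-!
# S3691: primes dividing the orders of overgroups of classical groups (helper655)

`PP (card E) e t`: `t` divides the order of a group containing `SL_m`, all isometries of a symplectic form, `Ω(Q)`;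
`PP q (2 j) t`, `j` odd, `card E = q ^ 2` : the same for the isometries of determinant one of a unitary form.
-/

set_option autoImplicit false

namespace Cfsg.Agent.H655.Rg

open Cfsg Cfsg.Geo Cfsg.Agent.H884.El
open scoped MatrixGroups Matrix

universe u

variable {E : Type u} [Field E] [Fintype E] {m : ℕ} {H : Subgroup (GL (Fin m) E)} {t e : ℕ}

omit [Fintype E] in
/-- an injective homomorphism with values in `H` -/
theorem dvd_of_hom {G : Type*} [Group G] (φ : G →* GL (Fin m) E) (hφ : Function.Injective φ)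
    (hmem : ∀ x, φ x ∈ H) (h : t ∣ Nat.card G) : t ∣ Nat.card H := by
  refine h.trans (Subgroup.card_dvd_of_injective (φ.codRestrict H hmem) fun x y hxy => hφ ?_)
  exact congrArg (fun z : H => (z : GL (Fin m) E)) hxy

theorem sl_dvd (ht : PP (Nat.card E) e t) (he : 3 ≤ e) (hem : e ≤ m) (hle : specialLinear (Fin m) E ≤ H) :
    t ∣ Nat.card H := by
  have h1 : t ∣ Nat.card (Matrix.SpecialLinearGroup (Fin m) E) := by
    have h0 := S0242.result (F := E) rfl m (by omega)
    rw [← Nat.card_eq_fintype_card] at h0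
    have h1 : t ∣ ∏ i : Fin m, (Nat.card E ^ m - Nat.card E ^ (i : ℕ)) := by
      refine dvd_trans ?_ (Finset.dvd_prod_of_mem _ (Finset.mem_univ (⟨m - e, by omega⟩ : Fin m)))
      have h2 : Nat.card E ^ m - Nat.card E ^ (m - e) = Nat.card E ^ (m - e) * (Nat.card E ^ e - 1) := by
        rw [Nat.mul_sub, mul_one, ← pow_add, Nat.sub_add_cancel hem]
      show t ∣ Nat.card E ^ m - Nat.card E ^ (m - e)
      rw [h2]
      exact ((ht.dvd_iff Nat.card_pos e).2 dvd_rfl).mul_left _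
    rw [← h0] at h1
    rcases (Nat.Prime.dvd_mul ht.prime).1 h1 with h | h
    · have h3 := (ht.dvd_iff Nat.card_pos 1).1 (by rw [pow_one]; exact h)
      have := Nat.le_of_dvd (by norm_num) h3
      omega
    · exact h
  exact dvd_of_hom (Matrix.SpecialLinearGroup.toGL) Matrix.SpecialLinearGroup.toGL_injective
    (fun x => hle ((H905.mem_sl_iff _).2 x.2)) h1

omit [Fintype E] in
theorem stdForm_eq (k : ℕ) (u v : Fin k ⊕ Fin k → E) : H953.stdForm k E u v = - sympForm k E u v := by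
  unfold H953.stdForm
  rw [ClassicalGeometry.SympBasic.sympForm_eq_sum, ← Finset.sum_neg_distrib]
  exact Finset.sum_congr rfl fun i _ => by ring

omit [Fintype E] in
theorem reindex_mulVec {k : ℕ} (ε : Fin k ⊕ Fin k ≃ Fin m) (A : GL (Fin k ⊕ Fin k) E) (u : Fin m → E) :
    (((glReindex ε A : GL (Fin m) E) : Matrix (Fin m) (Fin m) E) *ᵥ u) ∘ ε =
      (A : Matrix (Fin k ⊕ Fin k) (Fin k ⊕ Fin k) E) *ᵥ (u ∘ ε) := by
  funext i
  change ∑ j : Fin m, (A : Matrix (Fin k ⊕ Fin k) (Fin k ⊕ Fin k) E) (ε.symm (ε i)) (ε.symm j) * u j =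
    ∑ j : Fin k ⊕ Fin k, (A : Matrix (Fin k ⊕ Fin k) (Fin k ⊕ Fin k) E) i j * u (ε j)
  rw [← Equiv.sum_comp ε]
  simp

theorem sp_dvd {f : (Fin m → E) → (Fin m → E) → E} (hf : IsSymplecticForm f) (ht : PP (Nat.card E) e t)
    (he : Even e) (he0 : 2 ≤ e) (hem : e ≤ m)
    (hle : ∀ x : GL (Fin m) E, FixesForm {(x : Matrix (Fin m) (Fin m) E)} f → x ∈ H) : t ∣ Nat.card H := by
  obtain ⟨k, ε, S, hS⟩ := H953.exists_std hf
  have hk : k + k = m := by
    have := Fintype.card_congr ε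
    simpa using this
  have hcard : t ∣ Nat.card (spGL k E) := by
    rw [Nat.card_congr (H16.PSp4.toSymp k E).toEquiv, LieClassical.SympCount.card_symplecticGroup]
    apply Dvd.dvd.mul_left
    obtain ⟨i, hi⟩ := he
    refine dvd_trans ?_ (Finset.dvd_prod_of_mem _ (Finset.mem_range.2 (by omega : i - 1 < k)))
    rw [show 2 * (i - 1 + 1) = e by omega, ← Nat.card_eq_fintype_card]
    exact (ht.dvd_iff Nat.card_pos e).2 dvd_rfl
  refine dvd_of_hom ((MulAut.conj S).toMonoidHom.comp ((glReindex (F := E) ε).toMonoidHom.comp (spGL k E).subtype))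
    ((MulAut.conj S).injective.comp ((glReindex (F := E) ε).injective.comp (Subgroup.subtype_injective _)))
    (fun x => hle _ ?_) hcard
  rintro _ rfl u v
  change f (((S * glReindex ε (x : GL (Fin k ⊕ Fin k) E) * S⁻¹ : GL (Fin m) E) : Matrix (Fin m) (Fin m) E) *ᵥ u)
    (((S * glReindex ε (x : GL (Fin k ⊕ Fin k) E) * S⁻¹ : GL (Fin m) E) : Matrix (Fin m) (Fin m) E) *ᵥ v) = f u v
  have hx : ∀ u v, sympForm k E (((x : GL (Fin k ⊕ Fin k) E) : Matrix _ _ E) *ᵥ u)
      (((x : GL (Fin k ⊕ Fin k) E) : Matrix _ _ E) *ᵥ v) = sympForm k E u v := fun u v => x.2 u v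
  rw [Units.val_mul, Units.val_mul, ← Matrix.mulVec_mulVec, ← Matrix.mulVec_mulVec, ← Matrix.mulVec_mulVec,
    ← Matrix.mulVec_mulVec, hS, stdForm_eq, reindex_mulVec, reindex_mulVec, hx, ← stdForm_eq, ← hS, Matrix.mulVec_mulVec,
    Matrix.mulVec_mulVec, ← Units.val_mul, mul_inv_cancel, Units.val_one, Matrix.one_mulVec, Matrix.one_mulVec]

theorem om_dvd {Q : (Fin m → E) → E} (hQ : IsNondegenerateQuadraticForm Q) (ht : PP (Nat.card E) e t)
    (he : Even e) (he0 : 2 ≤ e) (hem : e < m) (hm : 5 ≤ m) (h2 : Even m ∨ (2 : E) ≠ 0) (hle : omegaGL Q ≤ H) :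
    t ∣ Nat.card H := by
  have hm5 : 5 ≤ Fintype.card (Fin m) := by rw [Fintype.card_fin]; exact hm
  obtain ⟨g, hg, hgt, hg1, -⟩ := exists_g (Q := H884.OmegaGL.bundle Q hQ) (H884.OmegaGL.nondeg_bundle Q hQ)
    ht he he0 (A := 1) le_rfl (by
      rw [Fintype.card_fin, mul_one]
      rcases h2 with h2 | h2
      · exact Or.inl ⟨h2, Or.inl hem⟩
      · exact Or.inr ⟨h2, hem⟩)
  have hodd : Odd t := ht.odd he0
  have hgO : LieClassical.OrthFinite.glEquiv (Fin m) E g ∈ LieClassical.OrthCore.O (H884.OmegaGL.bundle Q hQ) := by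
    intro v
    rw [LieClassical.OrthFinite.glEquiv_apply]
    exact LieClassical.OrthFinite.mem_isometryGroup_iff.1 hg v
  have hgH : g ∈ H := hle ((H884.OmegaGL.mem_omegaGL Q hQ hm5 g).2
    (H587.KB8.mem_E_of_odd (H884.OmegaGL.good_bundle Q hQ hm5) hgO hodd (by rw [← map_pow, hgt, map_one])))
  have := Fact.mk ht.prime
  have ho : orderOf g = t := orderOf_eq_prime hgt hg1
  rw [← ho, ← Subgroup.orderOf_mk g hgH]
  exact orderOf_dvd_natCard _

theorem su_dvd {q j : ℕ} (hE : Fintype.card E = q ^ 2) {τ : E ≃+* E} {f : (Fin m → E) → (Fin m → E) → E}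
    (hf : IsUnitaryForm τ f) (ht : PP q (2 * j) t) (hj : Odd j) (hj3 : 3 ≤ j) (hjm : j ≤ m)
    (hle : ∀ x : GL (Fin m) E, FixesForm {(x : Matrix (Fin m) (Fin m) E)} f →
      Matrix.GeneralLinearGroup.det x = 1 → x ∈ H) : t ∣ Nat.card H := by
  obtain ⟨q₁, hq₁, hσ⟩ := H895.SLT.unitary_sigma hf.involutive hf.ne_refl
  have hqq : q₁ = q := Nat.pow_left_injective (by norm_num : (2 : ℕ) ≠ 0) (hq₁.symm.trans hE)
  subst hqq
  have hq0 : 1 ≤ q₁ := by
    rcases Nat.eq_zero_or_pos q₁ with h | h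
    · exfalso
      rw [h] at hE
      have := Fintype.card_pos (α := E)
      omega
    · exact h
  have hf' : IsUnitaryFormPow q₁ f :=
    ⟨hf.add_left, hf.smul_left, fun v w => by rw [← hσ]; exact hf.herm v w, hf.nondegenerate⟩
  obtain ⟨P, hP⟩ := H956.UnitSim.exists_frame hE hf'
  have hcard : t ∣ Nat.card (SU m E q₁) := by
    refine H948.UProd.dvd_card_SU hE (i := j - 1) (by omega) (by omega) ?_
    unfold H948.UProd.ph
    rw [if_pos (by obtain ⟨k, hk⟩ := hj; exact ⟨k, by omega⟩), Nat.sub_add_cancel (by omega)]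
    have h1 : t ∣ q₁ ^ (2 * j) - 1 := (ht.dvd_iff hq0 _).2 dvd_rfl
    have h2 : q₁ ^ (2 * j) - 1 = (q₁ ^ j + 1) * (q₁ ^ j - 1) := by
      have := Nat.sq_sub_sq (q₁ ^ j) 1
      rw [one_pow, ← pow_mul] at this
      rw [mul_comm 2 j]
      exact this
    rw [h2] at h1
    rcases (ht.prime.dvd_mul).1 h1 with h | h
    · exact h
    · exfalso
      have h3 := (ht.dvd_iff hq0 j).1 h
      have := Nat.le_of_dvd (by omega) h3
      omega
  refine dvd_of_hom ((MulAut.conj P).toMonoidHom.comp (Matrix.SpecialLinearGroup.toGL.comp (SU m E q₁).subtype))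
    ((MulAut.conj P).injective.comp (Matrix.SpecialLinearGroup.toGL_injective.comp (Subgroup.subtype_injective _)))
    (fun x => hle _ ?_ ?_) hcard
  · rintro _ rfl u v
    change f (((P * Matrix.SpecialLinearGroup.toGL (x : Matrix.SpecialLinearGroup (Fin m) E) * P⁻¹ : GL (Fin m) E) :
      Matrix (Fin m) (Fin m) E) *ᵥ u) (((P * Matrix.SpecialLinearGroup.toGL (x : Matrix.SpecialLinearGroup (Fin m) E) * P⁻¹ :
      GL (Fin m) E) : Matrix (Fin m) (Fin m) E) *ᵥ v) = f u v
    have hx : ∀ u v, hermForm m E q₁ (((x : Matrix.SpecialLinearGroup (Fin m) E) : Matrix (Fin m) (Fin m) E) *ᵥ u)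
        (((x : Matrix.SpecialLinearGroup (Fin m) E) : Matrix (Fin m) (Fin m) E) *ᵥ v) = hermForm m E q₁ u v := x.2
    rw [Units.val_mul, Units.val_mul, ← Matrix.mulVec_mulVec, ← Matrix.mulVec_mulVec, ← Matrix.mulVec_mulVec,
      ← Matrix.mulVec_mulVec, hP]
    change hermForm m E q₁ (((x : Matrix.SpecialLinearGroup (Fin m) E) : Matrix (Fin m) (Fin m) E) *ᵥ _)
      (((x : Matrix.SpecialLinearGroup (Fin m) E) : Matrix (Fin m) (Fin m) E) *ᵥ _) = _
    rw [hx, ← hP, Matrix.mulVec_mulVec, Matrix.mulVec_mulVec, ← Units.val_mul, mul_inv_cancel, Units.val_one,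
      Matrix.one_mulVec, Matrix.one_mulVec]
  · change Matrix.GeneralLinearGroup.det (P * Matrix.SpecialLinearGroup.toGL (x : Matrix.SpecialLinearGroup (Fin m) E) * P⁻¹) = 1
    rw [map_mul, map_mul, map_inv, mul_comm _ ((Matrix.GeneralLinearGroup.det P)⁻¹), inv_mul_cancel_left]
    apply Units.ext
    rw [Matrix.GeneralLinearGroup.val_det_apply]
    exact (x : Matrix.SpecialLinearGroup (Fin m) E).2

end Cfsg.Agent.H655.Rg
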