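import Cfsg.Agent.H449.Reg.Abs
import Cfsg.Agent.H655.Rg.Ord
import Cfsg.Agent.H655.Rg.Fld

/-!
# S3691-T5: groups of isometries normalising a quadratic field (helper655)

`kext_even`, `kext_odd`.
-/

set_option autoImplicit false

namespace Cfsg.Agent.H655.Rg

open Module Cfsg Cfsg.Geo Cfsg.Agent.LieClassical.OrthCore Cfsg.Agent.LieClassical.OrthTrans
  Cfsg.Agent.H955 Cfsg.Agent.H954.TSing Cfsg.Agent.H884.El Cfsg.Agent.H278.Cov Cfsg.Agent.H449.Reg
open Cfsg.Agent.H951 (fx cm Inv)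
open scoped MatrixGroups Matrix

universe u v

section Mat

variable {F : Type u} [Field F] [Fintype F] {n m : ℕ} {K : Subalgebra F (Matrix (Fin n) (Fin n) F)}
  {E : Type u} [Field E] [Fintype E] (φ : Fr K E m) {B : Subgroup (GL (Fin n) F)}

theorem mem_cz [Nonempty (Fin n)] (hK : IsFieldSubalgebra 2 K) (hB : B ≤ subalgebraNormalizer K) {g : GL (Fin n) F}
    (hg : g ∈ B) (ho : Nat.Coprime (orderOf g) 2) : g ∈ cz K := fun k hk => H906.Cov.commute_of_coprime hK (hB hg) ho k hk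

omit [Fintype F] [Fintype E] in
theorem order_lift {g : GL (Fin n) F} (hg : g ∈ cz K) : orderOf (liftHom φ ⟨g, hg⟩) = orderOf g := by
  rw [orderOf_injective _ (lift_injective φ), Subgroup.orderOf_mk]

/-- the list lemma over the field `E` -/
theorem kcore (hP : H659.CovCore.S5948Stmt.{u}) (hK : IsFieldSubalgebra 2 K) (hn : n = 2 * m)
    (hE : Fintype.card E = Fintype.card F ^ 2) (hB : B ≤ subalgebraNormalizer K) {p f r a k : ℕ}
    (hp : p.Prime) (hf : 1 ≤ f) (hF : Fintype.card F = p ^ f) (hm : 10 ≤ m) (hkm : k ≤ m) (hmk : m < 2 * k)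
    (hr : PP p (2 * f * k) r) {g : GL (Fin n) F} (hg : g ∈ B) (ho : orderOf g = r ^ a) (hbig : 2 * k + 1 < r ^ a)
    (hdvd : r ^ a ∣ (p ^ (2 * f)) ^ k - 1) (hirr : ¬ Red (low φ B)) :
    Ext (Nat.gcd m k) (low φ B) ∨
    specialLinear (Fin m) E ≤ low φ B ∨
    (∃ f : (Fin m → E) → (Fin m → E) → E, IsSymplecticForm f ∧
        ∀ x : GL (Fin m) E, FixesForm {(x : Matrix (Fin m) (Fin m) E)} f → x ∈ low φ B) ∨
    (∃ (τ : E ≃+* E) (f : (Fin m → E) → (Fin m → E) → E), IsUnitaryForm τ f ∧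
        ∀ x : GL (Fin m) E, FixesForm {(x : Matrix (Fin m) (Fin m) E)} f → Matrix.GeneralLinearGroup.det x = 1 →
          x ∈ low φ B) ∨
    (∃ Q : (Fin m → E) → E, IsNondegenerateQuadraticForm Q ∧ omegaGL Q ≤ low φ B) := by
  have hne : Nonempty (Fin n) := ⟨⟨0, by omega⟩⟩
  have h1 : 1 ≤ 2 * f * k := Nat.mul_pos (by omega) (by omega)
  have hr2 : r ≠ 2 := by
    have := hr.lt h1
    have h3 : 2 * 1 * 6 ≤ 2 * f * k := Nat.mul_le_mul (Nat.mul_le_mul_left 2 hf) (by omega)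
    omega
  have hco : Nat.Coprime (orderOf g) 2 := by
    rw [ho]
    exact Nat.Coprime.pow_left a ((Nat.coprime_primes hr.prime Nat.prime_two).2 hr2)
  have hgz := mem_cz hK hB hg hco
  have hnum := num_of (n := m) hp (by omega : 1 ≤ 2 * f) hr hm hkm hmk hbig hdvd
  have hcE : Fintype.card E = p ^ (2 * f) := by rw [hE, hF, ← pow_mul, mul_comm]
  have h2 := H659.CovCore.core hP (ι := Fin m) (F := E) (k := k) (mem_low φ hgz hg)
    (by rw [order_lift, ho, hcE, Fintype.card_fin]; exact hnum) hirr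
  rwa [Fintype.card_fin] at h2

omit [Fintype F] in
theorem toLin_pow {x : GL (Fin n) F} {r : ℕ} (hxr : x ^ r = 1) :
    (Matrix.toLin' (x : Matrix (Fin n) (Fin n) F)) ^ r = 1 := by
  have h1 := congrArg (fun y : GL (Fin n) F => Matrix.toLin' (y : Matrix (Fin n) (Fin n) F)) hxr
  simp only [Units.val_pow_eq_pow_val, Units.val_one, Matrix.toLin'_one] at h1
  rw [Matrix.toLin'_pow] at h1
  exact h1

omit [Fintype F] in
theorem toLin_ne {x : GL (Fin n) F} (hx1 : x ≠ 1) : Matrix.toLin' (x : Matrix (Fin n) (Fin n) F) ≠ 1 := by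
  intro h
  apply hx1
  apply Units.ext
  apply Matrix.toLin'.injective
  rw [h, Units.val_one, Matrix.toLin'_one]
  rfl

omit [Fintype F] [Fintype E] in
theorem even_pull (hK : IsFieldSubalgebra 2 K) [Nonempty (Fin n)] (U : Submodule E (Fin m → E)) :
    2 ∣ finrank F (pull φ U) :=
  H906.Cov.dvd_finrank_of_invariant hK _ fun _ hx _ hv => pull_stable φ hx hv

omit [Fintype E] in
theorem not_red_odd (hn0 : 0 < n) {r : ℕ} {x : GL (Fin n) F} (hxB : x ∈ B) (hxz : x ∈ cz K) (hxr : x ^ r = 1)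
    (hx1 : x ≠ 1) (hr : PP (Nat.card F) n r) : ¬ Red (low φ B) := by
  rintro ⟨U, hU0, hU1, hU⟩
  rcases inv_all hr hn0 (toLin_pow hxr) (toLin_ne hx1) (by rw [Module.finrank_fintype_fun_eq_card, Fintype.card_fin])
    (U := pull φ U) (fun w hw => by rw [Matrix.toLin'_apply]; exact pull_inv φ hU hxz hxB hw) with h | h
  · exact pull_ne_bot φ hU0 h
  · exact pull_ne_top φ hU1 h

omit [Fintype E] in
theorem not_red_even (hK : IsFieldSubalgebra 2 K) (hB : B ≤ subalgebraNormalizer K) {r e : ℕ} (hne : n = e + 2)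
    (he : Even e) (he2 : 2 < e) {x : GL (Fin n) F} (hxB : x ∈ B) (hxz : x ∈ cz K) (hxr : x ^ r = 1)
    (hx1 : x ≠ 1) (hr : PP (Nat.card F) e r)
    (hirr : ∀ U : Submodule F (Fin n → F), (∀ b ∈ B, ∀ u ∈ U, (b : Matrix (Fin n) (Fin n) F) *ᵥ u ∈ U) →
      U = ⊥ ∨ U = ⊤) : ¬ Red (low φ B) := by
  have hn1 : Nonempty (Fin n) := ⟨⟨0, by omega⟩⟩
  rintro ⟨U, hU0, hU1, hU⟩
  obtain ⟨hf1, hc1, hcases⟩ := inv_cases hr he he2 (toLin_pow hxr) (toLin_ne hx1)
    (by rw [Module.finrank_fintype_fun_eq_card, Fintype.card_fin, hne])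
  have hinv : Inv (Matrix.toLin' (x : Matrix (Fin n) (Fin n) F)) (pull φ U) := fun w hw => by
    rw [Matrix.toLin'_apply]; exact pull_inv φ hU hxz hxB hw
  have hP := hcases _ hinv (even_pull φ hK U) (pull_ne_bot φ hU0) (pull_ne_top φ hU1)
  have hkey : ∀ b ∈ B, ∀ u ∈ pull φ U, (b : Matrix (Fin n) (Fin n) F) *ᵥ u ∈ pull φ U := by
    intro b hb u hu
    -- the image under `b`
    let T : Submodule F (Fin n → F) := (pull φ U).map (Matrix.toLin' (b : Matrix (Fin n) (Fin n) F))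
    have hb1 : (b : Matrix (Fin n) (Fin n) F) * ((b⁻¹ : GL (Fin n) F) : Matrix (Fin n) (Fin n) F) = 1 := by
      rw [← Units.val_mul, mul_inv_cancel, Units.val_one]
    have hb2 : ((b⁻¹ : GL (Fin n) F) : Matrix (Fin n) (Fin n) F) * (b : Matrix (Fin n) (Fin n) F) = 1 := by
      rw [← Units.val_mul, inv_mul_cancel, Units.val_one]
    have hinj : Function.Injective (Matrix.toLin' (b : Matrix (Fin n) (Fin n) F)) := by
      intro v w hvw
      rw [Matrix.toLin'_apply, Matrix.toLin'_apply] at hvw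
      have := congrArg (fun z => ((b⁻¹ : GL (Fin n) F) : Matrix (Fin n) (Fin n) F) *ᵥ z) hvw
      simpa only [Matrix.mulVec_mulVec, hb2, Matrix.one_mulVec] using this
    have hdim : finrank F T = finrank F (pull φ U) :=
      (Submodule.equivMapOfInjective _ hinj _).finrank_eq.symm
    have hT0 : T ≠ ⊥ := by
      intro h
      have h1 : finrank F T = 0 := by rw [h, finrank_bot]
      rw [hdim] at h1
      exact pull_ne_bot φ hU0 (Submodule.finrank_eq_zero.1 h1)
    have hT1 : T ≠ ⊤ := by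
      intro h
      rw [h, finrank_top] at hdim
      exact pull_ne_top φ hU1 (Submodule.eq_top_of_finrank_eq hdim.symm)
    -- `b⁻¹ x b` centralises `K`
    have hcz : b⁻¹ * x * b ∈ cz K := by
      intro k hk
      have h1 := hxz _ ((hB hb k).1 hk)
      rw [Units.val_mul, Units.val_mul]
      calc ((b⁻¹ : GL (Fin n) F) : Matrix (Fin n) (Fin n) F) * x * b * k
          = ((b⁻¹ : GL (Fin n) F) : Matrix (Fin n) (Fin n) F) * (x * ((b : Matrix (Fin n) (Fin n) F) * k *
              ((b⁻¹ : GL (Fin n) F) : Matrix (Fin n) (Fin n) F))) * b := by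
            simp only [mul_assoc, hb2, mul_one]
        _ = (((b⁻¹ : GL (Fin n) F) : Matrix (Fin n) (Fin n) F) * b) * k *
              (((b⁻¹ : GL (Fin n) F) : Matrix (Fin n) (Fin n) F) * x * b) := by
            rw [h1]; simp only [mul_assoc]
        _ = k * (((b⁻¹ : GL (Fin n) F) : Matrix (Fin n) (Fin n) F) * x * b) := by rw [hb2, one_mul]
    have hTinv : Inv (Matrix.toLin' (x : Matrix (Fin n) (Fin n) F)) T := by
      rintro _ ⟨w, hw, rfl⟩
      refine ⟨((b⁻¹ * x * b : GL (Fin n) F) : Matrix (Fin n) (Fin n) F) *ᵥ w,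
        pull_inv φ hU hcz (B.mul_mem (B.mul_mem (B.inv_mem hb) hxB) hb) hw, ?_⟩
      rw [Matrix.toLin'_apply, Matrix.toLin'_apply, Matrix.toLin'_apply, Matrix.mulVec_mulVec, Matrix.mulVec_mulVec,
        Units.val_mul, Units.val_mul, ← mul_assoc, ← mul_assoc, hb1, one_mul]
    have hTeven : 2 ∣ finrank F T := by rw [hdim]; exact even_pull φ hK U
    have hT := hcases T hTinv hTeven hT0 hT1
    have hTU : T = pull φ U := by
      rcases hT with h | h <;> rcases hP with h' | h'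
      · rw [h, h']
      · exfalso
        rw [h, h', hf1, hc1] at hdim
        omega
      · exfalso
        rw [h, h', hf1, hc1] at hdim
        omega
      · rw [h, h']
    rw [← hTU]
    exact ⟨u, hu, Matrix.toLin'_apply _ _⟩
  rcases hirr (pull φ U) hkey with h | h
  · exact pull_ne_bot φ hU0 h
  · exact pull_ne_top φ hU1 h

theorem not_ext_odd {h t : ℕ} (hh : 2 ≤ h) (hm : m = 2 * h + 1) (ht : PP (Nat.card E) h t) (hmt : m - 1 < t) (htm : t ≠ m)
    {H : Subgroup (GL (Fin m) E)} {z : GL (Fin m) E} (hz : z ∈ H) (hzo : orderOf z = t) (hExt : Ext m H) : False := by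
  obtain ⟨s, M, hs, hsm, hM, hle⟩ := hExt
  have hts : t ≠ s := by
    rintro rfl
    have := Nat.le_of_dvd (by omega) hsm
    omega
  have h1 := H906.Cov.ext_dvd hs hM (hle hz) (by rw [hzo]; exact (Nat.coprime_primes ht.prime hs).2 hts) (Polynomial.X - 1)
  rw [map_sub, Polynomial.aeval_X, map_one] at h1
  have hz1 : z ≠ 1 := by
    rintro rfl
    rw [orderOf_one] at hzo
    exact ht.prime.one_lt.ne hzo
  have hpow := toLin_pow (x := z) (r := t) (by rw [← hzo, pow_orderOf_eq_one])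
  have h2 := H951.finrank_fx_add_cm (ne0 ht (by omega)) hpow
  rw [Module.finrank_fintype_fun_eq_card, Fintype.card_fin] at h2
  have h3 := dvd_cm ht (by omega) hpow
  have h4 := cm_pos (toLin_ne hz1)
  have h5 : s ∣ finrank E (cm (Matrix.toLin' (z : Matrix (Fin m) (Fin m) E))) := by
    have h6 : s ∣ finrank E (fx (Matrix.toLin' (z : Matrix (Fin m) (Fin m) E))) := h1
    exact (Nat.dvd_add_right h6).1 (by rw [h2]; exact hsm)
  have h7 : finrank E (cm (Matrix.toLin' (z : Matrix (Fin m) (Fin m) E))) ∣ 2 * h := by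
    obtain ⟨A, hA⟩ := h3
    rw [hA] at h2 h4 ⊢
    have hA2 : A < 3 := by
      by_contra hcon
      push Not at hcon
      have := Nat.mul_le_mul_left h hcon
      omega
    have hA0 : A ≠ 0 := by rintro rfl; omega
    interval_cases A
    · exact absurd rfl hA0
    · exact ⟨2, by ring⟩
    · exact ⟨1, by ring⟩
  have h8 : s ∣ 1 := (Nat.dvd_add_right (h5.trans h7)).1 (by rw [← hm]; exact hsm)
  exact hs.one_lt.ne' (Nat.dvd_one.1 h8)

end Mat

section Main

variable {F : Type u} [Field F] [Fintype F] {V : Type v} [AddCommGroup V] [Module F V] [FiniteDimensional F V]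
  {Q : QuadraticForm F V} {A : Subgroup (V ≃ₗ[F] V)}

/-- an element of prime order from an element of order `r ^ a` -/
theorem exists_prime_pow {G : Type*} [Group G] {B : Subgroup G} {g : G} (hg : g ∈ B) {r a : ℕ} (hr : r.Prime)
    (ho : orderOf g = r ^ a) (ha : 1 < r ^ a) : ∃ x ∈ B, x ^ r = 1 ∧ x ≠ 1 ∧ ∃ k : ℕ, x = g ^ k := by
  have ha0 : a ≠ 0 := by
    rintro rfl
    rw [pow_zero] at ha
    omega
  obtain ⟨b, rfl⟩ : ∃ b, a = b + 1 := ⟨a - 1, by omega⟩
  refine ⟨g ^ r ^ b, B.pow_mem hg _, ?_, ?_, _, rfl⟩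
  · rw [← pow_mul, ← pow_succ, ← ho, pow_orderOf_eq_one]
  · intro h
    have h1 := orderOf_dvd_of_pow_eq_one h
    rw [ho] at h1
    have h2 := Nat.le_of_dvd (pow_pos hr.pos b) h1
    have h3 : r ^ b < r ^ (b + 1) := Nat.pow_lt_pow_right hr.one_lt (by omega)
    omega

omit [Fintype F] [FiniteDimensional F V] in
theorem irr_mat {n : ℕ} (φ₀ : V ≃ₗ[F] (Fin n → F))
    (hirr : ∀ W : Submodule F V, (∀ a ∈ A, ∀ w ∈ W, a w ∈ W) → W = ⊥ ∨ W = ⊤) :
    ∀ U : Submodule F (Fin n → F), (∀ b ∈ A.map (cj φ₀).toMonoidHom, ∀ u ∈ U, (b : Matrix (Fin n) (Fin n) F) *ᵥ u ∈ U) →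
      U = ⊥ ∨ U = ⊤ := by
  intro U hU
  have hkey : ∀ a ∈ A, ∀ w ∈ U.comap (φ₀ : V →ₗ[F] (Fin n → F)), a w ∈ U.comap (φ₀ : V →ₗ[F] (Fin n → F)) := by
    intro a ha w hw
    have h1 := hU (cj φ₀ a) ⟨a, ha, rfl⟩ (φ₀ w) hw
    rw [cj_apply'] at h1
    exact h1
  rcases hirr (U.comap (φ₀ : V →ₗ[F] (Fin n → F))) hkey with h | h
  · left
    rw [Submodule.eq_bot_iff]
    intro u hu
    have h1 : φ₀.symm u ∈ U.comap (φ₀ : V →ₗ[F] (Fin n → F)) := by
      change φ₀ (φ₀.symm u) ∈ U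
      rwa [φ₀.apply_symm_apply]
    rw [h, Submodule.mem_bot] at h1
    rw [← φ₀.apply_symm_apply u, h1, map_zero]
  · right
    rw [eq_top_iff]
    intro u _
    have h1 : φ₀.symm u ∈ U.comap (φ₀ : V →ₗ[F] (Fin n → F)) := by rw [h]; trivial
    have h2 : φ₀ (φ₀.symm u) ∈ U := h1
    rwa [φ₀.apply_symm_apply] at h2

omit [FiniteDimensional F V] in
/-- **(T5a)** groups normalising a quadratic field, `m` even -/
theorem kext_even (hP : H659.CovCore.S5948Stmt.{u}) {m p f r a : ℕ} (hm : Even m) (hm10 : 10 ≤ m)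
    (hn : finrank F V = 2 * m) (hQ : Nondeg Q) (hA : A ≤ O Q)
    (hirr : ∀ W : Submodule F V, (∀ a ∈ A, ∀ w ∈ W, a w ∈ W) → W = ⊥ ∨ W = ⊤) (hK : AExt 2 A)
    (hp : p.Prime) (hF : Fintype.card F = p ^ f) (hr : PP p (f * (2 * m - 2)) r)
    {g : V ≃ₗ[F] V} (hg : g ∈ A) (ho : orderOf g = r ^ a) (hbig : 2 * (2 * m - 2) + 1 < r ^ a)
    (hdvd : r ^ a ∣ (p ^ f) ^ (2 * m - 2) - 1) :
    (∀ t, PP (p ^ f) (2 * m - 4) t → t ∣ Nat.card A) ∨ (∀ t, PP (p ^ f) (2 * m - 6) t → t ∣ Nat.card A) := by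
  have _ := hQ
  have _ := hA
  obtain ⟨n, φ₀, K, -, hKf, hle⟩ := hK
  have hn' := finrank_of_equiv φ₀
  have hn2 : n = 2 * m := by omega
  obtain ⟨E, iE, iFE, hE, ⟨φ⟩⟩ := exists_fr hKf hn2 (by norm_num) (by omega)
  have hf : 1 ≤ f := by
    rcases Nat.eq_zero_or_pos f with h | h
    · exfalso
      rw [h, pow_zero] at hF
      have := Fintype.one_lt_card (α := F)
      omega
    · exact h
  set B := A.map (cj φ₀).toMonoidHom with hB
  have hcard : Nat.card B = Nat.card A := Subgroup.card_map_of_injective (cj φ₀).injective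
  have hgB : cj φ₀ g ∈ B := ⟨g, hg, rfl⟩
  have hgo : orderOf (cj φ₀ g) = r ^ a := by rw [MulEquiv.orderOf_eq, ho]
  have hne : Nonempty (Fin n) := ⟨⟨0, by omega⟩⟩
  have hr' : PP p (2 * f * (m - 1)) r := by
    have : 2 * f * (m - 1) = f * (2 * m - 2) := by
      rw [mul_comm 2 f, mul_assoc]; congr 1; omega
    rw [this]; exact hr
  have hrF : PP (Nat.card F) (2 * m - 2) r := by
    rw [Nat.card_eq_fintype_card, hF]
    exact PP.of_pow hr hf
  have hr2 : r ≠ 2 := by
    have := hrF.lt (by omega)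
    omega
  obtain ⟨x, hxB, hxr, hx1, k, hk⟩ := exists_prime_pow hgB hr.prime hgo (by omega)
  have hco : Nat.Coprime (orderOf x) 2 :=
    Nat.Coprime.coprime_dvd_left (orderOf_dvd_of_pow_eq_one hxr) ((Nat.coprime_primes hr.prime Nat.prime_two).2 hr2)
  have hred : ¬ Red (low φ B) := not_red_even φ hKf hle (e := 2 * m - 2) (by omega) ⟨m - 1, by omega⟩ (by omega) hxB
    (mem_cz hKf hle hxB hco) hxr hx1 hrF (irr_mat φ₀ hirr)
  have hdv : ∀ t, t ∣ Nat.card (low φ B) → t ∣ Nat.card A := fun t ht => hcard ▸ ht.trans (card_low_dvd φ B)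
  have hPE : ∀ {t j : ℕ}, PP (p ^ f) (2 * j) t → PP (Nat.card E) j t := fun {t j} ht => by
    rw [Nat.card_eq_fintype_card, hE, hF]
    exact PP.of_pow ht (by norm_num)
  rcases kcore φ hP hKf hn2 hE hle hp hf hF hm10 (k := m - 1) (by omega) (by omega) hr' hgB hgo (by omega)
    (by rw [← pow_mul] at hdvd ⊢; rw [show 2 * f * (m - 1) = f * (2 * m - 2) by
          rw [mul_comm 2 f, mul_assoc]; congr 1; omega]; exact hdvd) hred with
    h | h | ⟨f', hf', h⟩ | ⟨τ, f', hf', h⟩ | ⟨Q', hQ', h⟩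
  · exfalso
    obtain ⟨s, -, hs, hsd, -⟩ := h
    have h1 : Nat.gcd m (m - 1) = 1 := by
      have : Nat.Coprime (m - 1 + 1) (m - 1) := Nat.coprime_self_add_left.2 (Nat.coprime_one_left _)
      rwa [Nat.sub_add_cancel (by omega)] at this
    rw [h1] at hsd
    exact hs.one_lt.ne' (Nat.dvd_one.1 hsd)
  · left
    intro t ht
    rw [show 2 * m - 4 = 2 * (m - 2) by omega] at ht
    exact hdv t (sl_dvd (hPE ht) (by omega) (by omega) h)
  · left
    intro t ht
    rw [show 2 * m - 4 = 2 * (m - 2) by omega] at ht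
    exact hdv t (sp_dvd hf' (hPE ht) (by obtain ⟨i, hi⟩ := hm; exact ⟨i - 1, by omega⟩) (by omega) (by omega) h)
  · right
    intro t ht
    rw [show 2 * m - 6 = 2 * (m - 3) by omega] at ht
    exact hdv t (su_dvd (q := p ^ f) (j := m - 3) (by rw [hE, hF]) hf' ht
      (by obtain ⟨i, hi⟩ := hm; exact ⟨i - 2, by omega⟩) (by omega) (by omega) h)
  · left
    intro t ht
    rw [show 2 * m - 4 = 2 * (m - 2) by omega] at ht
    exact hdv t (om_dvd hQ' (hPE ht) (by obtain ⟨i, hi⟩ := hm; exact ⟨i - 1, by omega⟩) (by omega) (by omega) (by omega)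
      (Or.inl hm) h)

/-- a nondegenerate quadratic form in odd dimension -/
theorem two_ne_zero_of_odd {E : Type u} [Field E] [Finite E] {m : ℕ} (hm : Odd m) {Q : (Fin m → E) → E}
    (hQ : IsNondegenerateQuadraticForm Q) : (2 : E) ≠ 0 := by
  intro h2
  have h3 : ∀ x : E, x + x = 0 := fun x => by rw [← two_mul, h2, zero_mul]
  have hs : IsSymplecticForm (QuadraticMap.polar Q) := by
    refine ⟨hQ.polar_bilinear, fun v w => ?_, fun v => ?_, hQ.nondegenerate⟩
    · rw [eq_neg_iff_add_eq_zero, QuadraticMap.polar_comm Q w v]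
      exact h3 _
    · have h4 : Q (v + v) = 4 * Q v := by
        have := hQ.smul 2 v
        rw [two_smul] at this
        rw [this]; ring
      unfold QuadraticMap.polar
      rw [h4]
      linear_combination (Q v) * h2
  have h5 := H914.even_card_of_symplectic hs
  rw [Fintype.card_fin] at h5
  exact (Nat.not_even_iff_odd.2 hm) h5

omit [FiniteDimensional F V] in
/-- **(T5b)** groups normalising a quadratic field, `m` odd -/
theorem kext_odd (hP : H659.CovCore.S5948Stmt.{u}) {m p f r a : ℕ} (hm : Odd m) (hm11 : 11 ≤ m)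
    (hn : finrank F V = 2 * m) (hQ : Nondeg Q) (hA : A ≤ O Q) (hK : AExt 2 A)
    (hp : p.Prime) (hF : Fintype.card F = p ^ f) (hr : PP p (f * (2 * m)) r)
    {g : V ≃ₗ[F] V} (hg : g ∈ A) (ho : orderOf g = r ^ a) (hbig : 2 * (2 * m) + 1 < r ^ a)
    (hdvd : r ^ a ∣ (p ^ f) ^ (2 * m) - 1)
    {t : ℕ} (ht : PP (p ^ f) (m - 1) t) (htm : t ≠ m) (htA : t ∣ Nat.card A) :
    (∀ t, PP (p ^ f) (2 * m - 4) t → t ∣ Nat.card A) ∨ (∀ t, PP (p ^ f) (2 * m - 2) t → t ∣ Nat.card A) := by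
  have _ := hQ
  have _ := hA
  obtain ⟨n, φ₀, K, -, hKf, hle⟩ := hK
  have hn' := finrank_of_equiv φ₀
  have hn2 : n = 2 * m := by omega
  obtain ⟨E, iE, iFE, hE, ⟨φ⟩⟩ := exists_fr hKf hn2 (by norm_num) (by omega)
  have hf : 1 ≤ f := by
    rcases Nat.eq_zero_or_pos f with h | h
    · exfalso
      rw [h, pow_zero] at hF
      have := Fintype.one_lt_card (α := F)
      omega
    · exact h
  set B := A.map (cj φ₀).toMonoidHom with hB
  have hcard : Nat.card B = Nat.card A := Subgroup.card_map_of_injective (cj φ₀).injective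
  have hgB : cj φ₀ g ∈ B := ⟨g, hg, rfl⟩
  have hgo : orderOf (cj φ₀ g) = r ^ a := by rw [MulEquiv.orderOf_eq, ho]
  have hne : Nonempty (Fin n) := ⟨⟨0, by omega⟩⟩
  have hr' : PP p (2 * f * m) r := by
    have : 2 * f * m = f * (2 * m) := by ring
    rw [this]; exact hr
  have hrF : PP (Nat.card F) n r := by
    rw [Nat.card_eq_fintype_card, hF, hn2]
    exact PP.of_pow hr hf
  have hr2 : r ≠ 2 := by
    have := hrF.lt (by omega)
    omega
  obtain ⟨x, hxB, hxr, hx1, k, hk⟩ := exists_prime_pow hgB hr.prime hgo (by omega)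
  have hco : Nat.Coprime (orderOf x) 2 :=
    Nat.Coprime.coprime_dvd_left (orderOf_dvd_of_pow_eq_one hxr) ((Nat.coprime_primes hr.prime Nat.prime_two).2 hr2)
  have hred : ¬ Red (low φ B) := not_red_odd φ (by omega) hxB (mem_cz hKf hle hxB hco) hxr hx1 hrF
  have hdv : ∀ t, t ∣ Nat.card (low φ B) → t ∣ Nat.card A := fun t ht => hcard ▸ ht.trans (card_low_dvd φ B)
  have hPE : ∀ {t j : ℕ}, PP (p ^ f) (2 * j) t → PP (Nat.card E) j t := fun {t j} ht => by
    rw [Nat.card_eq_fintype_card, hE, hF]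
    exact PP.of_pow ht (by norm_num)
  rcases kcore φ hP hKf hn2 hE hle hp hf hF (by omega) (k := m) le_rfl (by omega) hr' hgB hgo (by omega)
    (by rw [← pow_mul] at hdvd ⊢; rw [show 2 * f * m = f * (2 * m) by ring]; exact hdvd) hred with
    h | h | ⟨f', hf', h⟩ | ⟨τ, f', hf', h⟩ | ⟨Q', hQ', h⟩
  · exfalso
    rw [Nat.gcd_self] at h
    obtain ⟨j, hj⟩ := hm
    have htE : PP (Nat.card E) j t := hPE (by rw [show 2 * j = m - 1 by omega]; exact ht)
    have htl := ht.lt (by omega)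
    have := Fact.mk ht.prime
    obtain ⟨⟨z, hz⟩, hzo⟩ := exists_prime_orderOf_dvd_card' (G := B) t (by rw [hcard]; exact htA)
    rw [Subgroup.orderOf_mk] at hzo
    have hzc : z ∈ cz K := mem_cz hKf hle hz (by
      rw [hzo]
      exact (Nat.coprime_primes ht.prime Nat.prime_two).2 (by omega))
    exact not_ext_odd (by omega) hj htE htl htm (mem_low φ hzc hz) (by rw [order_lift, hzo]) h
  · left
    intro t ht
    rw [show 2 * m - 4 = 2 * (m - 2) by omega] at ht
    exact hdv t (sl_dvd (hPE ht) (by omega) (by omega) h)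
  · exfalso
    have h5 := H914.even_card_of_symplectic hf'
    rw [Fintype.card_fin] at h5
    exact (Nat.not_even_iff_odd.2 hm) h5
  · left
    intro t ht
    rw [show 2 * m - 4 = 2 * (m - 2) by omega] at ht
    exact hdv t (su_dvd (q := p ^ f) (j := m - 2) (by rw [hE, hF]) hf' ht
      (by obtain ⟨i, hi⟩ := hm; exact ⟨i - 1, by omega⟩) (by omega) (by omega) h)
  · right
    intro t ht
    rw [show 2 * m - 2 = 2 * (m - 1) by omega] at ht
    exact hdv t (om_dvd hQ' (hPE ht) (by obtain ⟨i, hi⟩ := hm; exact ⟨i, by omega⟩) (by omega) (by omega) (by omega)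
      (Or.inr (two_ne_zero_of_odd hm hQ')) h)

end Main

end Cfsg.Agent.H655.Rg
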