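import Cfsg.Agent.H655.Rg.KExt

/-!
# S3691-T5: the case `t = m` (helper655)

`kext_odd_sq`: as `kext_odd`, with `t ^ 2 ∣ |A|` in place of `t ≠ m`.
-/

set_option autoImplicit false

namespace Cfsg.Agent.H655.Rg

open Module Cfsg Cfsg.Geo Cfsg.Agent.LieClassical.OrthCore Cfsg.Agent.LieClassical.OrthTrans
  Cfsg.Agent.H955 Cfsg.Agent.H954.TSing Cfsg.Agent.H884.El Cfsg.Agent.H278.Cov Cfsg.Agent.H449.Reg
open Cfsg.Agent.H951 (fx cm Inv)
open scoped MatrixGroups Matrix

universe u v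

section Mat

variable {F : Type u} [Field F] [Fintype F] {n m : ℕ} {K : Subalgebra F (Matrix (Fin n) (Fin n) F)}
  {E : Type u} [Field E] [Fintype E] (φ : Fr K E m) {B : Subgroup (GL (Fin n) F)}

/-- the centraliser of a field has index dividing the degree -/
theorem card_dvd_mul {s : ℕ} (hK : IsFieldSubalgebra s K) [Nonempty (Fin n)] (hB : B ≤ subalgebraNormalizer K) :
    Nat.card B ∣ Nat.card ↥(B ⊓ cz K) * s := by
  let _ : Field K := (H906.Cov.isField_of hK).toField
  have hfin : Finite K := Module.finite_of_finite F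
  have hbij : ∀ b : B, Function.Bijective (H906.Cov.conjE (hB b.2)) := fun b =>
    Finite.injective_iff_bijective.1 (H906.Cov.conjE (hB b.2)).toRingHom.injective
  let ρ : B →* (K ≃ₐ[F] K) :=
    { toFun := fun b => AlgEquiv.ofBijective (H906.Cov.conjE (hB b.2)) (hbij b)
      map_one' := by
        ext y : 2
        change ((1 : GL (Fin n) F) : Matrix (Fin n) (Fin n) F) * y * (((1 : GL (Fin n) F)⁻¹ : GL (Fin n) F) : Matrix (Fin n) (Fin n) F) = y
        simp
      map_mul' := fun a b => by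
        ext y : 2
        change (((a : GL (Fin n) F) * b : GL (Fin n) F) : Matrix (Fin n) (Fin n) F) * y *
          ((((a : GL (Fin n) F) * b)⁻¹ : GL (Fin n) F) : Matrix (Fin n) (Fin n) F) =
          ((a : GL (Fin n) F) : Matrix (Fin n) (Fin n) F) * (((b : GL (Fin n) F) : Matrix (Fin n) (Fin n) F) * y *
            (((b : GL (Fin n) F)⁻¹ : GL (Fin n) F) : Matrix (Fin n) (Fin n) F)) *
            (((a : GL (Fin n) F)⁻¹ : GL (Fin n) F) : Matrix (Fin n) (Fin n) F)
        rw [mul_inv_rev, Units.val_mul, Units.val_mul]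
        simp only [mul_assoc] }
  have hcard : Nat.card (K ≃ₐ[F] K) = s := by
    rw [IsGalois.card_aut_eq_finrank F K, hK.finrank_eq]
  have h1 := Subgroup.card_mul_index ρ.ker
  have h2 : ρ.ker.index ∣ s := by
    rw [Subgroup.index_ker, ← hcard]
    exact Subgroup.card_subgroup_dvd_card ρ.range
  have h3 : Nat.card ρ.ker ∣ Nat.card ↥(B ⊓ cz K) := by
    have hle : ρ.ker.map B.subtype ≤ B ⊓ cz K := by
      rintro _ ⟨b, hb, rfl⟩
      refine ⟨b.2, fun k hk => ?_⟩
      have h4 : ρ b = 1 := hb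
      have h5 := congrArg (fun z : K ≃ₐ[F] K => ((z ⟨k, hk⟩ : K) : Matrix (Fin n) (Fin n) F)) h4
      have h6 : ((b : GL (Fin n) F) : Matrix (Fin n) (Fin n) F) * k *
        (((b : GL (Fin n) F)⁻¹ : GL (Fin n) F) : Matrix (Fin n) (Fin n) F) = k := h5
      calc ((b : GL (Fin n) F) : Matrix (Fin n) (Fin n) F) * k =
          ((b : GL (Fin n) F) : Matrix (Fin n) (Fin n) F) * k *
            ((((b : GL (Fin n) F)⁻¹ : GL (Fin n) F) : Matrix (Fin n) (Fin n) F) * ((b : GL (Fin n) F) : Matrix (Fin n) (Fin n) F)) := by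
            rw [← Units.val_mul, inv_mul_cancel, Units.val_one, mul_one]
        _ = k * ((b : GL (Fin n) F) : Matrix (Fin n) (Fin n) F) := by rw [← mul_assoc, h6]
    rw [← Subgroup.card_map_of_injective (Subgroup.subtype_injective B)]
    exact Subgroup.card_dvd_of_le hle
  rw [← h1]
  exact mul_dvd_mul h3 h2

omit [Fintype F] [Fintype E] in
theorem card_low (B : Subgroup (GL (Fin n) F)) : Nat.card (low φ B) = Nat.card ↥(B ⊓ cz K) := by
  rw [low, Subgroup.card_map_of_injective (lift_injective φ), ← Subgroup.card_map_of_injective (Subgroup.subtype_injective _),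
    Subgroup.subgroupOf_map_subtype]

theorem not_ext_odd_sq {h t : ℕ} (hh : 2 ≤ h) (hm : m = 2 * h + 1) (ht : PP (Nat.card E) h t) (hmt : m - 1 < t)
    {H : Subgroup (GL (Fin m) E)} (hH : t ^ 2 ∣ Nat.card H) (hExt : Ext m H) : False := by
  have := Fact.mk ht.prime
  rcases eq_or_ne t m with htm | htm
  · obtain ⟨s, M, hs, hsm, hM, hle⟩ := hExt
    have hne : Nonempty (Fin m) := ⟨⟨0, by omega⟩⟩
    have hst : s = t := (Nat.prime_dvd_prime_iff_eq hs ht.prime).1 (htm ▸ hsm)
    have h1 : t ∣ Nat.card ↥(H ⊓ cz M) := by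
      have h2 := hH.trans (card_dvd_mul hM hle)
      rw [hst, pow_two] at h2
      exact Nat.dvd_of_mul_dvd_mul_right ht.prime.pos h2
    obtain ⟨⟨z, hz⟩, hzo⟩ := exists_prime_orderOf_dvd_card' (G := ↥(H ⊓ cz M)) t h1
    rw [Subgroup.orderOf_mk] at hzo
    have hz1 : z ≠ 1 := by
      rintro rfl
      rw [orderOf_one] at hzo
      exact ht.prime.one_lt.ne hzo
    have hpow := toLin_pow (x := z) (r := t) (by rw [← hzo, pow_orderOf_eq_one])
    have h2 := H951.finrank_fx_add_cm (ne0 ht (by omega)) hpow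
    rw [Module.finrank_fintype_fun_eq_card, Fintype.card_fin] at h2
    have h3 := dvd_cm ht (by omega) hpow
    have h4 := cm_pos (toLin_ne hz1)
    have h5 : s ∣ finrank E (fx (Matrix.toLin' (z : Matrix (Fin m) (Fin m) E))) := by
      refine H906.Cov.dvd_finrank_of_invariant hM _ fun x hx v hv => ?_
      have h6 : (z : Matrix (Fin m) (Fin m) E) *ᵥ v = v := by
        have h7 : v ∈ fx (Matrix.toLin' (z : Matrix (Fin m) (Fin m) E)) := hv
        rw [H951.mem_fx, Matrix.toLin'_apply] at h7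
        exact h7
      rw [H951.mem_fx, Matrix.toLin'_apply, Matrix.mulVec_mulVec, hz.2 x hx, ← Matrix.mulVec_mulVec, h6]
    have h6 : finrank E (fx (Matrix.toLin' (z : Matrix (Fin m) (Fin m) E))) = 0 := by
      refine Nat.eq_zero_of_dvd_of_lt h5 ?_
      omega
    rw [h6, zero_add] at h2
    rw [h2, hm] at h3
    have h7 : h ∣ 1 := (Nat.dvd_add_right (Dvd.intro_left 2 rfl)).1 h3
    have := Nat.le_of_dvd (by norm_num) h7
    omega
  · obtain ⟨⟨z, hz⟩, hzo⟩ := exists_prime_orderOf_dvd_card' (G := H) t ((Dvd.intro_left (t ^ 1) (by ring)).trans hH)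
    rw [Subgroup.orderOf_mk] at hzo
    exact not_ext_odd hh hm ht hmt htm hz hzo hExt

end Mat

section Main

variable {F : Type u} [Field F] [Fintype F] {V : Type v} [AddCommGroup V] [Module F V]
  {Q : QuadraticForm F V} {A : Subgroup (V ≃ₗ[F] V)}

/-- **(T5b)** groups normalising a quadratic field, `m` odd, `t ^ 2 ∣ |A|` -/
theorem kext_odd_sq (hP : H659.CovCore.S5948Stmt.{u}) {m p f r a : ℕ} (hm : Odd m) (hm11 : 11 ≤ m)
    (hn : finrank F V = 2 * m) (hQ : Nondeg Q) (hA : A ≤ O Q) (hK : AExt 2 A)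
    (hp : p.Prime) (hF : Fintype.card F = p ^ f) (hr : PP p (f * (2 * m)) r)
    {g : V ≃ₗ[F] V} (hg : g ∈ A) (ho : orderOf g = r ^ a) (hbig : 2 * (2 * m) + 1 < r ^ a)
    (hdvd : r ^ a ∣ (p ^ f) ^ (2 * m) - 1)
    {t : ℕ} (ht : PP (p ^ f) (m - 1) t) (htA : t ^ 2 ∣ Nat.card A) :
    (∀ t, PP (p ^ f) (2 * m - 4) t → t ∣ Nat.card A) ∨ (∀ t, PP (p ^ f) (2 * m - 2) t → t ∣ Nat.card A) := by
  have _ := hQ
  have _ := hA
  obtain ⟨n, φ₀, K, -, hKf, hle⟩ := hK
  have hn' := finrank_of_equiv φ₀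
  have hn2 : n = 2 * m := by omega
  obtain ⟨E, iE, iFE, hE, ⟨φ⟩⟩ := exists_fr hKf hn2 (by norm_num) (by omega)
  have hf : 1 ≤ f := by
    rcases Nat.eq_zero_or_pos f with h | h
    · exfalso
      rw [h, pow_zero] at hF
      have := Fintype.one_lt_card (α := F)
      omega
    · exact h
  set B := A.map (cj φ₀).toMonoidHom with hB
  have hcard : Nat.card B = Nat.card A := Subgroup.card_map_of_injective (cj φ₀).injective
  have hgB : cj φ₀ g ∈ B := ⟨g, hg, rfl⟩
  have hgo : orderOf (cj φ₀ g) = r ^ a := by rw [MulEquiv.orderOf_eq, ho]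
  have hne : Nonempty (Fin n) := ⟨⟨0, by omega⟩⟩
  have hr' : PP p (2 * f * m) r := by
    have : 2 * f * m = f * (2 * m) := by ring
    rw [this]; exact hr
  have hrF : PP (Nat.card F) n r := by
    rw [Nat.card_eq_fintype_card, hF, hn2]
    exact PP.of_pow hr hf
  have hr2 : r ≠ 2 := by
    have := hrF.lt (by omega)
    omega
  obtain ⟨x, hxB, hxr, hx1, k, hk⟩ := exists_prime_pow hgB hr.prime hgo (by omega)
  have hco : Nat.Coprime (orderOf x) 2 :=
    Nat.Coprime.coprime_dvd_left (orderOf_dvd_of_pow_eq_one hxr) ((Nat.coprime_primes hr.prime Nat.prime_two).2 hr2)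
  have hred : ¬ Red (low φ B) := not_red_odd φ (by omega) hxB (mem_cz hKf hle hxB hco) hxr hx1 hrF
  have hdv : ∀ t, t ∣ Nat.card (low φ B) → t ∣ Nat.card A := fun t ht => hcard ▸ ht.trans (card_low_dvd φ B)
  have hPE : ∀ {t j : ℕ}, PP (p ^ f) (2 * j) t → PP (Nat.card E) j t := fun {t j} ht => by
    rw [Nat.card_eq_fintype_card, hE, hF]
    exact PP.of_pow ht (by norm_num)
  rcases kcore φ hP hKf hn2 hE hle hp hf hF (by omega) (k := m) le_rfl (by omega) hr' hgB hgo (by omega)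
    (by rw [← pow_mul] at hdvd ⊢; rw [show 2 * f * m = f * (2 * m) by ring]; exact hdvd) hred with
    h | h | ⟨f', hf', h⟩ | ⟨τ, f', hf', h⟩ | ⟨Q', hQ', h⟩
  · exfalso
    rw [Nat.gcd_self] at h
    obtain ⟨j, hj⟩ := hm
    have htE : PP (Nat.card E) j t := hPE (by rw [show 2 * j = m - 1 by omega]; exact ht)
    have htl := ht.lt (by omega)
    have ht2 : t ^ 2 ∣ Nat.card (low φ B) := by
      rw [card_low]
      have h0 : t ^ 2 ∣ Nat.card B := by rw [hcard]; exact htA
      refine (Nat.Coprime.dvd_of_dvd_mul_right ?_ (h0.trans (card_dvd_mul hKf hle)))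
      exact Nat.Coprime.pow_left 2 ((Nat.coprime_primes ht.prime Nat.prime_two).2 (by omega))
    exact not_ext_odd_sq (by omega) hj htE htl ht2 h
  · left
    intro t ht
    rw [show 2 * m - 4 = 2 * (m - 2) by omega] at ht
    exact hdv t (sl_dvd (hPE ht) (by omega) (by omega) h)
  · exfalso
    have h5 := H914.even_card_of_symplectic hf'
    rw [Fintype.card_fin] at h5
    exact (Nat.not_even_iff_odd.2 hm) h5
  · left
    intro t ht
    rw [show 2 * m - 4 = 2 * (m - 2) by omega] at ht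
    exact hdv t (su_dvd (q := p ^ f) (j := m - 2) (by rw [hE, hF]) hf' ht
      (by obtain ⟨i, hi⟩ := hm; exact ⟨i - 1, by omega⟩) (by omega) (by omega) h)
  · right
    intro t ht
    rw [show 2 * m - 2 = 2 * (m - 1) by omega] at ht
    exact hdv t (om_dvd hQ' (hPE ht) (by obtain ⟨i, hi⟩ := hm; exact ⟨i, by omega⟩) (by omega) (by omega) (by omega)
      (Or.inr (two_ne_zero_of_odd hm hQ')) h)

end Main

end Cfsg.Agent.H655.Rg
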